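import Mathlib
import Cfsg.Agent.Lib.ClassSizes.Basic
import Cfsg.Agent.Lib.Inv59.RankThree.Basic

/-!
# Elementary facts used for the simple groups with four centraliser orders
-/

set_option autoImplicit false
set_option linter.style.haveILetI false
set_option linter.unusedSectionVars false

namespace Cfsg.Agent.Lib.RankFour54

open Cfsg.Agent.Lib.ClassSizes.Basic
open Cfsg.Agent.Lib.Inv59.RankThree

universe u

variable {G : Type u} [Group G] [Finite G]

theorem card_dvd_ordProj {p : ℕ} [hp : Fact p.Prime] {P H : Subgroup G} (hP : IsPGroup p P)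
    (hPH : P ≤ H) : Nat.card P ∣ p ^ (Nat.card H).factorization p := by
  obtain ⟨n, hn⟩ := IsPGroup.iff_card.1 hP
  rw [hn]
  exact pow_dvd_pow p ((hp.out.pow_dvd_iff_le_factorization Nat.card_pos.ne').1
    (hn ▸ Subgroup.card_dvd_of_le hPH))

theorem card_le_ordProj {p : ℕ} [hp : Fact p.Prime] {P H : Subgroup G} (hP : IsPGroup p P)
    (hPH : P ≤ H) : Nat.card P ≤ p ^ (Nat.card H).factorization p :=
  Nat.le_of_dvd (Nat.ordProj_pos _ _) (card_dvd_ordProj hP hPH)

/-- A `p`-subgroup of `H` lies in one of full order. -/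
theorem exists_full {p : ℕ} [Fact p.Prime] {P H : Subgroup G} (hP : IsPGroup p P) (hPH : P ≤ H) :
    ∃ S : Subgroup G, P ≤ S ∧ S ≤ H ∧ IsPGroup p S ∧
      Nat.card S = p ^ (Nat.card H).factorization p := by
  have hP' : IsPGroup p (P.subgroupOf H) := hP.of_equiv (Subgroup.subgroupOfEquivOfLe hPH).symm
  obtain ⟨R, hR⟩ := hP'.exists_le_sylow
  refine ⟨(R : Subgroup H).map H.subtype, fun x hx => ?_, Subgroup.map_subtype_le _,
    R.2.map _, ?_⟩
  · exact ⟨⟨x, hPH hx⟩, hR (by rw [Subgroup.mem_subgroupOf]; exact hx), rfl⟩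
  · rw [Subgroup.card_map_of_injective H.subtype_injective, Sylow.card_eq_multiplicity]

theorem isPGroup_zpowers {p : ℕ} [Fact p.Prime] {x : G} {k : ℕ} (h : orderOf x = p ^ k) :
    IsPGroup p (Subgroup.zpowers x) :=
  IsPGroup.of_card (n := k) (by rw [Nat.card_zpowers, h])

theorem exists_orderOf_eq {p : ℕ} [Fact p.Prime] {S : Subgroup G} (hS : IsPGroup p S) {z : G}
    (hz : z ∈ S) : ∃ j : ℕ, orderOf z = p ^ j := by
  obtain ⟨j, hj⟩ := IsPGroup.iff_orderOf.1 hS ⟨z, hz⟩
  exact ⟨j, by rwa [Subgroup.orderOf_mk] at hj⟩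

/-- A full `p`-subgroup of `H` absorbs the `p`-elements of `H` normalising it. -/
theorem mem_of_full {p : ℕ} [hp : Fact p.Prime] {S H : Subgroup G} (hS : IsPGroup p S)
    (hSH : S ≤ H) (hc : Nat.card S = p ^ (Nat.card H).factorization p) {y : G} (hy : y ∈ H)
    {k : ℕ} (hyo : orderOf y = p ^ k) (hN : y ∈ Subgroup.normalizer (S : Set G)) : y ∈ S := by
  have h1 : IsPGroup p (Subgroup.zpowers y ⊔ S : Subgroup G) :=
    IsPGroup.to_sup_of_normal_right' (isPGroup_zpowers hyo) hS (Subgroup.zpowers_le.2 hN)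
  have h2 : Subgroup.zpowers y ⊔ S ≤ H := sup_le (Subgroup.zpowers_le.2 hy) hSH
  have h3 := card_le_ordProj h1 h2
  rw [← hc] at h3
  have h4 := Subgroup.eq_of_le_of_card_ge (le_sup_right : S ≤ Subgroup.zpowers y ⊔ S) h3
  rw [h4]
  exact Subgroup.mem_sup_left (Subgroup.mem_zpowers y)

/-- An element all of whose prime power parts lie in a subgroup lies in it. -/
theorem mem_of_parts (H : Subgroup G) {a : G}
    (h : ∀ k p i : ℕ, p.Prime → orderOf (a ^ k) = p ^ i → a ^ k ∈ H) : a ∈ H := by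
  suffices hz : ∀ n : ℕ, ∀ b : G, orderOf b = n →
      (∀ k p i : ℕ, p.Prime → orderOf (b ^ k) = p ^ i → b ^ k ∈ H) → b ∈ H from hz _ a rfl h
  intro n
  induction n using Nat.strong_induction_on with
  | _ n ih =>
    intro b hb hparts
    by_cases h1 : n = 1
    · rw [orderOf_eq_one_iff.1 (hb.trans h1)]; exact H.one_mem
    obtain ⟨p, hp, hd⟩ := Nat.exists_prime_and_dvd h1
    have hn0 : n ≠ 0 := hb ▸ (orderOf_pos b).ne'
    obtain ⟨i, m, hm, hi⟩ := Nat.exists_eq_pow_mul_and_not_dvd hn0 p hp.ne_one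
    have hm0 : m ≠ 0 := by rintro rfl; exact hm (dvd_zero p)
    have hmlt : m < n := by
      have hi0 : i ≠ 0 := by
        rintro rfl
        rw [pow_zero, one_mul] at hi
        exact hm (hi ▸ hd)
      have : 1 < p ^ i := one_lt_pow₀ hp.one_lt hi0
      rw [hi]
      exact lt_mul_of_one_lt_left (Nat.pos_of_ne_zero hm0) this
    have h2 : orderOf (b ^ m) = p ^ i := by
      rw [orderOf_pow_of_dvd hm0 (hb ▸ hi ▸ Dvd.intro_left _ rfl), hb, hi,
        Nat.mul_div_cancel _ (Nat.pos_of_ne_zero hm0)]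
    have h3 : orderOf (b ^ p ^ i) = m := by
      rw [orderOf_pow_of_dvd (pow_ne_zero _ hp.ne_zero) (hb ▸ hi ▸ dvd_mul_right _ _), hb, hi,
        Nat.mul_div_cancel_left _ (pow_pos hp.pos i)]
    have h4 : b ^ p ^ i ∈ H := by
      refine ih m hmlt _ h3 fun k q j hq he => ?_
      rw [← pow_mul] at he ⊢
      exact hparts _ q j hq he
    have h5 : b ^ m ∈ H := hparts m p i hp h2
    have hcop : Nat.gcd m (p ^ i) = 1 := by
      rw [← Nat.coprime_iff_gcd_eq_one]
      exact (Nat.Coprime.pow_left i (hp.coprime_iff_not_dvd.2 hm)).symm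
    have h6 := Nat.gcd_eq_gcd_ab m (p ^ i)
    rw [hcop, Nat.cast_one] at h6
    have h7 : b = (b ^ m) ^ Nat.gcdA m (p ^ i) * (b ^ p ^ i) ^ Nat.gcdB m (p ^ i) := by
      rw [← zpow_natCast b m, ← zpow_natCast b (p ^ i), ← zpow_mul, ← zpow_mul, ← zpow_add,
        ← h6, zpow_one]
    rw [h7]
    exact H.mul_mem (H.zpow_mem h5 _) (H.zpow_mem h4 _)

theorem odd_orderOf_pow {x : G} (h : Odd (orderOf x)) (k : ℕ) : Odd (orderOf (x ^ k)) :=
  h.of_dvd_nat (orderOf_pow_dvd k)

/-- Two commuting elements of odd order have a product of odd order. -/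
theorem odd_orderOf_mul {x y : G} (hc : Commute x y) (hx : Odd (orderOf x)) (hy : Odd (orderOf y)) :
    Odd (orderOf (x * y)) :=
  (hx.mul hy).of_dvd_nat hc.orderOf_mul_dvd_mul_orderOf

theorem orderOf_conj (g x : G) : orderOf (g * x * g⁻¹) = orderOf x := by
  have := (MulAut.conj g).orderOf_eq x
  rwa [MulAut.conj_apply] at this

end Cfsg.Agent.Lib.RankFour54
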