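import Mathlib
import Cfsg.Agent.Lib.RankFour54.Basic
import Cfsg.Agent.Lib.Cores.Basic
import Cfsg.Agent.S0028
import Cfsg.Agent.S0044
import Cfsg.Agent.S0071
import Cfsg.Agent.S0086

/-!
# Odd elements acting on two-subgroups in solvable groups
-/

set_option autoImplicit false
set_option linter.style.haveILetI false
set_option linter.unusedSectionVars false

namespace Cfsg.Agent.Lib.RankFour54.Struct

open Cfsg.Agent.Lib.ClassSizes.Basic
open Cfsg.Agent.Lib.Inv59.RankThree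
open Cfsg.Agent.Lib.RankFour54

universe u

variable {C : Type u} [Group C] [Finite C]

/-- An element of odd order normalising a 2-subgroup of a group with a normal 2-complement
centralises it. -/
theorem commute_of_npc (h : Cfsg.HasNormalPComplement 2 C) {Q : Subgroup C} (hQ : IsPGroup 2 Q)
    {g : C} (hg : Odd (orderOf g)) (hgQ : g ∈ Subgroup.normalizer (Q : Set C)) {x : C} (hx : x ∈ Q) :
    g * x = x * g := by
  obtain ⟨P, N, hN, hc⟩ := h
  haveI := hN
  have hgN : g ∈ N := (Cfsg.Agent.S0086.result P N hc g).2 (Nat.coprime_two_right.2 hg)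
  set z := g * x * g⁻¹ * x⁻¹ with hz
  have hzQ : z ∈ Q := Q.mul_mem ((Subgroup.mem_normalizer_iff.1 hgQ x).1 hx) (Q.inv_mem hx)
  have hzN : z ∈ N := by
    have := N.mul_mem hgN (hN.conj_mem _ (N.inv_mem hgN) x)
    simpa [hz, mul_assoc] using this
  obtain ⟨j, hj⟩ := exists_orderOf_eq hQ hzQ
  have h2 := (Cfsg.Agent.S0086.result P N hc z).1 hzN
  rw [hj] at h2
  have hz1 : z = 1 := orderOf_eq_one_iff.1 (by
    rcases Nat.eq_zero_or_pos j with rfl | hj0
    · rw [hj, pow_zero]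
    · exact absurd (Nat.eq_one_of_dvd_coprimes h2 (dvd_pow_self 2 hj0.ne') dvd_rfl) (by norm_num))
  rw [hz, mul_inv_eq_one, mul_inv_eq_iff_eq_mul] at hz1
  exact hz1

/-- Without a normal 2-complement some element of odd order acts on a 2-subgroup. -/
theorem exists_action_of_not_npc (h : ¬ Cfsg.HasNormalPComplement 2 C) :
    ∃ (Q : Subgroup C) (g : C), IsPGroup 2 Q ∧ Odd (orderOf g) ∧
      g ∈ Subgroup.normalizer (Q : Set C) ∧ ∃ x ∈ Q, g * x ≠ x * g := by
  by_contra! hno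
  apply h
  obtain ⟨P⟩ : Nonempty (Sylow 2 C) := inferInstance
  obtain ⟨N, hN, hc⟩ := (Cfsg.Agent.S0071.result P).2 fun Q hQ g hg hcop =>
    Subgroup.mem_centralizer_iff.2 fun x hx =>
      (hno Q g (P.2.to_le hQ) (Nat.coprime_two_right.1 hcop) hg x hx).symm
  exact ⟨P, N, hN, hc⟩

/-- Without a normal 2-complement some element of odd order lies outside the odd core. -/
theorem exists_odd_outside (h : ¬ Cfsg.HasNormalPComplement 2 C) :
    ∃ r : C, Odd (orderOf r) ∧ r ∉ Cfsg.pPrimeCore 2 C := by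
  obtain ⟨Q, g, hQ, hg, hgQ, x, hx, hne⟩ := exists_action_of_not_npc h
  refine ⟨g, hg, fun hgK => hne ?_⟩
  set z := g * x * g⁻¹ * x⁻¹ with hz
  have hzQ : z ∈ Q := Q.mul_mem ((Subgroup.mem_normalizer_iff.1 hgQ x).1 hx) (Q.inv_mem hx)
  have hzK : z ∈ Cfsg.pPrimeCore 2 C := by
    have := (Cfsg.pPrimeCore 2 C).mul_mem hgK
      ((inferInstance : (Cfsg.pPrimeCore 2 C).Normal).conj_mem _ (inv_mem hgK) x)
    simpa [hz, mul_assoc] using this
  obtain ⟨j, hj⟩ := exists_orderOf_eq hQ hzQ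
  have hd : orderOf z ∣ Nat.card (Cfsg.pPrimeCore 2 C) := by
    have := orderOf_dvd_natCard (⟨z, hzK⟩ : Cfsg.pPrimeCore 2 C)
    rwa [Subgroup.orderOf_mk] at this
  have hz1 : z = 1 := orderOf_eq_one_iff.1 (Nat.eq_one_of_dvd_coprimes
    ((Cores.pPrimeCore_coprime 2).coprime_dvd_left hd |>.pow_right j) dvd_rfl (dvd_of_eq hj))
  rw [hz, mul_inv_eq_one, mul_inv_eq_iff_eq_mul] at hz1
  exact hz1

/-- The 2-core of a solvable group with trivial odd core is self-centralising. -/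
theorem centralizer_pCore_le {H : Type u} [Group H] [Finite H] [Group.IsSolvable H]
    (h : Cfsg.pPrimeCore 2 H = ⊥) :
    Subgroup.centralizer (Cfsg.pCore 2 H : Set H) ≤ Cfsg.pCore 2 H := by
  have hF : Cfsg.fittingSubgroup H ≤ Cfsg.pCore 2 H := by
    rw [Cores.fittingSubgroup_eq_iSup_pCore]
    refine iSup_le fun q => ?_
    by_cases hq : (q : ℕ) = 2
    · rw [hq]
    · haveI : Fact (q : ℕ).Prime := ⟨q.2⟩
      have h1 : Cfsg.pCore (q : ℕ) H ≤ Cfsg.pPrimeCore 2 H := by
        refine Cores.le_pPrimeCore ?_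
        obtain ⟨k, hk⟩ := IsPGroup.iff_card.1 (Cores.pCore_isPGroup (G := H) (q : ℕ))
        rw [hk]
        exact ((Nat.coprime_primes q.2 Nat.prime_two).2 hq).pow_left k
      rw [h] at h1
      exact h1.trans bot_le
  exact ((Subgroup.centralizer_le hF).trans (Cfsg.Agent.S0044.result (G := H))).trans hF

variable [Group.IsSolvable C]

/-- An element of odd order outside the odd core which centralises a 2-subgroup `D` gives an
element of odd order and a 2-subgroup, both centralising `D`, with non-trivial action. -/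
theorem exists_action {r : C} (hr : Odd (orderOf r)) (hrK : r ∉ Cfsg.pPrimeCore 2 C)
    {D : Subgroup C} (hD : IsPGroup 2 D) (hDr : D ≤ Subgroup.centralizer ({r} : Set C)) :
    ∃ (Q : Subgroup C) (g : C), IsPGroup 2 Q ∧ Q ≤ Subgroup.centralizer (D : Set C) ∧
      g ∈ Subgroup.centralizer (D : Set C) ∧ Odd (orderOf g) ∧
      g ∈ Subgroup.normalizer (Q : Set C) ∧ ∃ x ∈ Q, g * x ≠ x * g := by
  classical
  set K := Cfsg.pPrimeCore 2 C with hK
  set q := QuotientGroup.mk' K with hq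
  have hqs : Function.Surjective q := QuotientGroup.mk'_surjective K
  haveI : Group.IsSolvable (C ⧸ K) := Group.isSolvable_of_surjective hqs
  have hcenF := centralizer_pCore_le (H := C ⧸ K) (Cores.pPrimeCore_quotient_pPrimeCore 2)
  set F := Cfsg.pCore 2 (C ⧸ K) with hF
  have hFp : IsPGroup 2 F := Cores.pCore_isPGroup 2
  have hqr : q r ∉ F := fun hm => by
    obtain ⟨j, hj⟩ := exists_orderOf_eq hFp hm
    have h1 : orderOf (q r) ∣ orderOf r := orderOf_map_dvd q r
    have h2 : orderOf (q r) = 1 := Nat.eq_one_of_dvd_coprimes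
      ((Nat.coprime_two_left.2 hr).pow_left j) (dvd_of_eq hj) h1
    exact hrK ((QuotientGroup.eq_one_iff r).1 (orderOf_eq_one_iff.1 h2))
  obtain ⟨ub, hubF, hubD, hubr⟩ : ∃ ub ∈ F, ub ∈ Subgroup.centralizer (D.map q : Set (C ⧸ K)) ∧
      ub ∉ Subgroup.centralizer ((Subgroup.zpowers (q r) : Subgroup (C ⧸ K)) : Set (C ⧸ K)) := by
    by_contra! hno
    apply hqr
    refine hcenF (Cfsg.Agent.S0028.result 2 (D.map q) (Subgroup.zpowers (q r)) F (hD.map q) ?_ hFp
      ?_ ?_ ?_ (fun u hu => hno u hu.1 hu.2) (Subgroup.mem_zpowers _))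
    · rw [Nat.card_zpowers]
      exact Nat.coprime_two_right.2 (hr.of_dvd_nat (orderOf_map_dvd q r))
    · rintro _ ⟨d, hd, rfl⟩
      refine Subgroup.mem_centralizer_iff.2 fun z hz => ?_
      obtain ⟨i, rfl⟩ := Subgroup.mem_zpowers_iff.1 hz
      exact ((show Commute r d from mem_cen.1 (hDr hd)).map q).zpow_left i
    · rw [Subgroup.normalizer_eq_top_iff.2 (inferInstance : F.Normal)]; exact le_top
    · rw [Subgroup.normalizer_eq_top_iff.2 (inferInstance : F.Normal)]; exact le_top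
  -- lift inside a Sylow subgroup containing `D`
  obtain ⟨T, hDT⟩ := hD.exists_le_sylow
  obtain ⟨u, huT, hu⟩ : ∃ u ∈ (T : Subgroup C), q u = ub := by
    have := Cores.pCore_le_sylow (T.mapSurjective hqs) hubF
    rw [Sylow.coe_mapSurjective] at this
    exact this
  have huD : u ∈ Subgroup.centralizer (D : Set C) := by
    refine Subgroup.mem_centralizer_iff.2 fun d hd => ?_
    have hTz : d * u * d⁻¹ * u⁻¹ ∈ (T : Subgroup C) :=
      mul_mem (mul_mem (mul_mem (hDT hd) huT) (inv_mem (hDT hd))) (inv_mem huT)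
    have hKz : d * u * d⁻¹ * u⁻¹ ∈ K := by
      rw [← QuotientGroup.eq_one_iff]
      show q (d * u * d⁻¹ * u⁻¹) = 1
      have := Subgroup.mem_centralizer_iff.1 hubD (q d) ⟨d, hd, rfl⟩
      simp only [map_mul, map_inv, hu]
      rw [this]; group
    obtain ⟨j, hj⟩ := exists_orderOf_eq T.2 hTz
    have hd' : orderOf (d * u * d⁻¹ * u⁻¹) ∣ Nat.card K := by
      have := orderOf_dvd_natCard (⟨_, hKz⟩ : K)
      rwa [Subgroup.orderOf_mk] at this
    have h1 := orderOf_eq_one_iff.1 (Nat.eq_one_of_dvd_coprimes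
      ((Cores.pPrimeCore_coprime 2).coprime_dvd_left hd' |>.pow_right j) dvd_rfl (dvd_of_eq hj))
    rwa [mul_inv_eq_one, mul_inv_eq_iff_eq_mul] at h1
  have hrD : r ∈ Subgroup.centralizer (D : Set C) :=
    Subgroup.mem_centralizer_iff.2 fun d hd => (mem_cen.1 (hDr hd)).symm
  set M := Subgroup.centralizer (D : Set C) with hM
  have hnpc : ¬ Cfsg.HasNormalPComplement 2 M := by
    rintro ⟨P, N, hN, hc⟩
    haveI := hN
    apply hubr
    have hrN : (⟨r, hrD⟩ : M) ∈ N :=
      (Cfsg.Agent.S0086.result P N hc _).2 (by rw [Subgroup.orderOf_mk]; exact Nat.coprime_two_right.2 hr)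
    set z : M := ⟨r, hrD⟩ * ⟨u, huD⟩ * (⟨r, hrD⟩ : M)⁻¹ * (⟨u, huD⟩ : M)⁻¹ with hz
    have hzN : z ∈ N := by
      have := N.mul_mem hrN (hN.conj_mem _ (N.inv_mem hrN) ⟨u, huD⟩)
      rw [← mul_assoc, ← mul_assoc] at this
      exact this
    have hodd : Odd (orderOf (z : C)) := by
      rw [Subgroup.orderOf_coe]
      exact Nat.coprime_two_right.1 ((Cfsg.Agent.S0086.result P N hc z).1 hzN)
    have hqz : q (z : C) ∈ F := by
      have e : q (z : C) = q r * ub * (q r)⁻¹ * ub⁻¹ := by simp [hz, hu]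
      rw [e]
      exact F.mul_mem ((inferInstance : F.Normal).conj_mem _ hubF _) (F.inv_mem hubF)
    obtain ⟨j, hj⟩ := exists_orderOf_eq hFp hqz
    have h1 := orderOf_eq_one_iff.1 (Nat.eq_one_of_dvd_coprimes
      ((Nat.coprime_two_left.2 hodd).pow_left j) (dvd_of_eq hj) (orderOf_map_dvd q _))
    have h2 : Commute (q r) ub := by
      have : q r * ub * (q r)⁻¹ * ub⁻¹ = 1 := by simpa [hz, hu] using h1
      rwa [mul_inv_eq_one, mul_inv_eq_iff_eq_mul] at this
    refine Subgroup.mem_centralizer_iff.2 fun z hz => ?_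
    obtain ⟨i, rfl⟩ := Subgroup.mem_zpowers_iff.1 hz
    exact (h2.zpow_left i).eq
  obtain ⟨Q, g, hQ, hg, hgQ, x, hx, hne⟩ := exists_action_of_not_npc hnpc
  refine ⟨Q.map M.subtype, (g : C), hQ.map _, Subgroup.map_subtype_le _, g.2,
    by rwa [Subgroup.orderOf_coe], ?_, (x : C), ⟨x, hx, rfl⟩, fun e => hne (Subtype.ext e)⟩
  rw [Subgroup.mem_normalizer_iff]
  intro z
  constructor
  · rintro ⟨w, hw, rfl⟩
    exact ⟨g * w * g⁻¹, (Subgroup.mem_normalizer_iff.1 hgQ w).1 hw, rfl⟩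
  · rintro ⟨w, hw, e⟩
    refine ⟨g⁻¹ * w * g, (Subgroup.mem_normalizer_iff''.1 hgQ w).1 hw, ?_⟩
    simp only [Subgroup.coe_subtype, Subgroup.coe_mul, InvMemClass.coe_inv] at e ⊢
    rw [e]; group

end Cfsg.Agent.Lib.RankFour54.Struct
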