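import Mathlib
import Cfsg.Agent.Lib.RankFour54.Basic
import Cfsg.Agent.Lib.Inv59.RankThree.Chain
import Cfsg.Agent.Lib.Inv59.RankThree.Chars
import Cfsg.Agent.Lib.Inv59.EightAuto

/-!
# Maximal values and values below an involution

In a simple group with four centraliser orders two incomparable values that dominate all others
are coprime, and below the value of an involution there is at most one further value, the same
for all involutions.
-/

set_option autoImplicit false
set_option linter.style.haveILetI false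
set_option linter.unusedSectionVars false

namespace Cfsg.Agent.Lib.RankFour54.Cross

open Cfsg.Agent.Lib.ClassSizes.Basic
open Cfsg.Agent.Lib.Inv59.RankThree
open Cfsg.Agent.Lib.RankFour54

universe u

variable {G : Type u} [Group G] [Finite G] [IsSimpleGroup G]

/-- The set of the centraliser orders of the non-identity elements. -/
def vals (G : Type u) [Group G] : Set ℕ := cn '' ({1}ᶜ : Set G)

omit [IsSimpleGroup G] in
theorem mem_vals {x : G} (hx : x ≠ 1) : cn x ∈ vals G := ⟨x, hx, rfl⟩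

omit [IsSimpleGroup G] in
theorem two_le_of_mem {v : ℕ} (hv : v ∈ vals G) : 2 ≤ v := by
  obtain ⟨x, hx, rfl⟩ := hv
  exact le_trans (show 2 ≤ orderOf x by
    have h0 := orderOf_pos x
    have h1 : orderOf x ≠ 1 := fun e => hx (orderOf_eq_one_iff.1 e)
    omega) (Nat.le_of_dvd (cn_pos x) (orderOf_dvd_cn x))

omit [IsSimpleGroup G] in
/-- Four distinct values are all of them. -/
theorem eq_of_four (h4 : (vals G).ncard = 4) {a b c d e : ℕ} (ha : a ∈ vals G) (hb : b ∈ vals G)
    (hc : c ∈ vals G) (hd : d ∈ vals G) (he : e ∈ vals G) (hab : a ≠ b) (hac : a ≠ c)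
    (had : a ≠ d) (hbc : b ≠ c) (hbd : b ≠ d) (hcd : c ≠ d) :
    e = a ∨ e = b ∨ e = c ∨ e = d := by
  have hsub : ({a, b, c, d} : Set ℕ) ⊆ vals G := by
    intro v hv
    rcases hv with rfl | rfl | rfl | rfl <;> assumption
  have hcard : ({a, b, c, d} : Set ℕ).ncard = 4 := by
    rw [Set.ncard_insert_of_notMem (by simp [hab, hac, had]),
      Set.ncard_insert_of_notMem (by simp [hbc, hbd]), Set.ncard_pair hcd]
  have := Set.eq_of_subset_of_ncard_le hsub (by rw [hcard, h4]) ((Set.toFinite _).image _)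
  rw [← this] at he
  simpa using he

omit [IsSimpleGroup G] in
theorem index_eq {x y : G} (h : cn x = cn y) :
    (Subgroup.centralizer ({x} : Set G)).index = (Subgroup.centralizer ({y} : Set G)).index :=
  Nat.eq_of_mul_eq_mul_left (cn_pos y) ((h ▸ cn_mul_index x).trans (cn_mul_index y).symm)

variable (hG : ¬ IsMulCommutative G)
include hG

/-- Two values dominating all others have coprime indices. -/
theorem index_coprime {x y : G}
    (hall : ∀ v ∈ vals G, v ∣ cn x ∨ v ∣ cn y) :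
    Nat.Coprime (Subgroup.centralizer ({x} : Set G)).index
      (Subgroup.centralizer ({y} : Set G)).index := by
  refine Nat.coprime_of_dvd fun p hp h1 h2 => ?_
  obtain ⟨w, hw, hwp⟩ := exists_central hp (h1.trans (Subgroup.index_dvd_card _))
  apply hwp
  have key : ∀ z : G, cn w ∣ cn z → p ∣ (Subgroup.centralizer ({z} : Set G)).index →
      p ∣ (Subgroup.centralizer ({w} : Set G)).index := by
    intro z ⟨t, ht⟩ hd
    have e := (cn_mul_index w).trans (cn_mul_index z).symm
    rw [ht, mul_assoc] at e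
    rw [Nat.eq_of_mul_eq_mul_left (cn_pos w) e]
    exact hd.mul_left t
  rcases hall _ (mem_vals hw) with h | h
  · exact key x h h1
  · exact key y h h2

set_option maxHeartbeats 400000 in
/-- The basic step: an element of order `r` central in a Sylow subgroup of the centraliser of
`x` yields the two other values. -/
theorem step {a b : ℕ} (hab : ¬ a ∣ b) (hba : ¬ b ∣ a) (hall : ∀ v ∈ vals G, v ∣ a ∨ v ∣ b)
    {x y : G} {p q : ℕ} (hp : p.Prime) (hq : q.Prime) (hxp : orderOf x = p) (hyq : orderOf y = q)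
    (hxa : cn x = a) (hyb : cn y = b) {r : ℕ} (hr : r.Prime) (hra : r ∣ a)
    (hrb : ¬ r ∣ (Subgroup.centralizer ({y} : Set G)).index) :
    ∃ u v, u ∈ vals G ∧ v ∈ vals G ∧ u ≠ a ∧ u ≠ b ∧ v ≠ a ∧ v ≠ b ∧ u ∣ v ∧ u ≠ v ∧ p ∣ u ∧
      (r = q → ¬ v ∣ a) ∧
      (r ≠ q → ∃ u', u' ∈ vals G ∧ u' ≠ a ∧ u' ≠ b ∧ u' ∣ v ∧ u' ≠ v ∧ q ∣ u') := by
  classical
  haveI := Fact.mk hr
  have hx1 : x ≠ 1 := ne_one_of_prime hp hxp
  have hy1 : y ≠ 1 := ne_one_of_prime hq hyq
  have hind := index_coprime hG (x := x) (y := y) (by rw [hxa, hyb]; exact hall)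
  have hL2 : ∀ c d : G, c ≠ 1 → d ≠ 1 → cn c = cn x → cn d = cn y →
      ¬ c ∈ Subgroup.centralizer ({d} : Set G) := fun c d hc hd ec ed h =>
    not_coprime_commute hG hc hd h (by rw [index_eq ec, index_eq ed]; exact hind)
  have hpy : p ∣ (Subgroup.centralizer ({y} : Set G)).index := by
    by_contra h
    obtain ⟨g, hg⟩ := exists_conj_commute hp h hxp
    exact hL2 x _ hx1 (conj_ne_one hy1) rfl (cn_conj g y) hg
  have hrp : r ≠ p := fun e => hrb (e ▸ hpy)
  -- a central element of a Sylow subgroup of the centraliser of `x`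
  obtain ⟨R, -, hRx, hRp, hRcard⟩ :=
    exists_full (p := r) (H := Subgroup.centralizer ({x} : Set G)) IsPGroup.of_bot bot_le
  have hfac : 1 ≤ (Nat.card (Subgroup.centralizer ({x} : Set G))).factorization r :=
    (hr.dvd_iff_one_le_factorization (cn_pos x).ne').1 (hxa ▸ hra)
  haveI : Nontrivial R := by
    rw [← Finite.one_lt_card_iff_nontrivial, hRcard]
    exact one_lt_pow₀ hr.one_lt (by omega)
  haveI := hRp.center_nontrivial
  obtain ⟨w, hw⟩ := exists_ne (1 : Subgroup.center R)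
  obtain ⟨k, hk, hk1⟩ := exists_pow_of_dvd (x := ((w : R) : G)) hr (by
    obtain ⟨j, hj⟩ := exists_orderOf_eq hRp (w : R).2
    rw [hj]
    refine dvd_pow_self r fun e => hw ?_
    rw [e, pow_zero, orderOf_eq_one_iff] at hj
    exact Subtype.ext (Subtype.ext hj))
  set e := ((w : R) : G) ^ k with he
  have heR : e ∈ R := R.pow_mem (w : R).2 k
  have hRe : R ≤ Subgroup.centralizer ({e} : Set G) := fun z hz => by
    refine mem_cen.2 ?_
    have h := congrArg Subtype.val (Subgroup.mem_center_iff.1 w.2 ⟨z, hz⟩)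
    exact ((show Commute z ((w : R) : G) from h).pow_right k).symm.eq
  have hxe : Commute x e := mem_cen.1 (hRx heR)
  obtain ⟨g, hg⟩ := exists_conj_commute hr hrb hk
  set y' := g * y * g⁻¹ with hy'
  have hy'1 : y' ≠ 1 := conj_ne_one hy1
  have hy'b : cn y' = cn y := cn_conj g y
  have hey : Commute y' e := mem_cen.1 hg
  have hva : cn e ≠ a := fun h => hL2 e y' hk1 hy'1 (h.trans hxa.symm) hy'b hg
  have hvb : cn e ≠ b := fun h => hL2 x e hx1 hk1 rfl (h.trans hyb.symm)
    (mem_cen.2 hxe.symm.eq)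
  -- products with `e`
  have hprod : ∀ (z : G) (s : ℕ), s.Prime → orderOf z = s → r ≠ s → Commute z e →
      z * e ≠ 1 ∧ cn (z * e) ∣ cn e ∧ cn (z * e) ∣ cn z ∧ s ∣ cn (z * e) ∧
      (cn (z * e) = cn e → Subgroup.centralizer ({e} : Set G) ≤ Subgroup.centralizer ({z} : Set G)) := by
    intro z s hs hzs hne hc
    have hcop : (orderOf z).Coprime (orderOf e) := by
      rw [hzs, hk]; exact (Nat.coprime_primes hs hr).2 hne.symm
    have hC := cen_mul_eq hc hcop
    refine ⟨fun h1 => ?_, cn_dvd_of_le (hC.le.trans inf_le_right),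
      cn_dvd_of_le (hC.le.trans inf_le_left), ?_, fun h => ?_⟩
    · have := hc.orderOf_mul_eq_mul_orderOf_of_coprime hcop
      rw [h1, orderOf_one, hzs] at this
      exact hs.ne_one (Nat.eq_one_of_mul_eq_one_right this.symm)
    · rw [← hzs]
      exact orderOf_dvd_cn' (hC.ge ⟨mem_self z, mem_cen.2 hc.symm.eq⟩)
    · rw [← eq_of_le_cn (hC.le.trans inf_le_right) h, hC]
      exact inf_le_left
  obtain ⟨hne1, huv, hua', hpu, hueq⟩ := hprod x p hp hxp hrp hxe
  have hlow : ∀ u, u ∈ vals G → u ∣ cn e → u ≠ a ∧ u ≠ b := by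
    intro u _ huv
    constructor
    · rintro rfl
      rcases hall _ (mem_vals hk1) with h | h
      · exact hva (Nat.dvd_antisymm h huv)
      · exact hab (huv.trans h)
    · rintro rfl
      rcases hall _ (mem_vals hk1) with h | h
      · exact hba (huv.trans h)
      · exact hvb (Nat.dvd_antisymm h huv)
  obtain ⟨hua, hub⟩ := hlow _ (mem_vals hne1) huv
  have hxny' : x ∉ Subgroup.centralizer ({y'} : Set G) := hL2 x y' hx1 hy'1 rfl hy'b
  refine ⟨cn (x * e), cn e, mem_vals hne1, mem_vals hk1, hua, hub, hva, hvb, huv,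
    fun h => hxny' (mem_cen_comm.1 (hueq h (mem_cen.2 hey.symm.eq))), hpu, ?_, fun hne => ?_⟩
  · -- a Sylow subgroup of the centraliser of `e`
    intro hrq hd
    set W := Subgroup.centralizer ({e} : Set G) with hW
    have hidx : ¬ r ∣ (R.subgroupOf W).index := by
      intro h
      have h1 : Nat.card R * (R.subgroupOf W).index = cn e := by
        rw [← Nat.card_congr (Subgroup.subgroupOfEquivOfLe hRe).toEquiv]
        exact Subgroup.card_mul_index _
      have h2 : Nat.card R * r ∣ cn x := by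
        rw [hxa]
        exact ((Nat.mul_dvd_mul_left _ h).trans (dvd_of_eq h1)).trans hd
      rw [hRcard, ← pow_succ, hr.pow_dvd_iff_le_factorization (cn_pos x).ne'] at h2
      exact absurd h2 (by simp [cn])
    have hy'o : orderOf (⟨y', mem_cen.2 hey.symm.eq⟩ : W) = r := by
      rw [Subgroup.orderOf_mk, hy', orderOf_conj, hyq, hrq]
    obtain ⟨c, hc⟩ := exists_conj_mem hr hidx hy'o
    have hc' : (c : G) * y' * (c : G)⁻¹ ∈ Subgroup.centralizer ({x} : Set G) :=
      hRx (Subgroup.mem_subgroupOf.1 hc)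
    exact hL2 x _ hx1 (conj_ne_one hy'1) rfl ((cn_conj _ _).trans hy'b) (mem_cen_comm.1 hc')
  · obtain ⟨hne2, huv', -, hqu, hueq'⟩ := hprod y' q hq (by rw [hy', orderOf_conj, hyq]) hne hey
    obtain ⟨h1, h2⟩ := hlow _ (mem_vals hne2) huv'
    exact ⟨_, mem_vals hne2, h1, h2, huv',
      fun h => hxny' (hueq' h (mem_cen.2 hxe.symm.eq)), hqu⟩

omit hG in
theorem exists_prime_rep {a b : ℕ} (hab : ¬ a ∣ b) (hall : ∀ v ∈ vals G, v ∣ a ∨ v ∣ b)
    (ha : a ∈ vals G) : ∃ x : G, ∃ p : ℕ, p.Prime ∧ orderOf x = p ∧ cn x = a := by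
  obtain ⟨x, hx, rfl⟩ := ha
  obtain ⟨p, k, hp, hk, hk1⟩ := exists_prime_pow hx
  refine ⟨x ^ k, p, hp, hk, ?_⟩
  have hd := cn_dvd_of_le (cen_le_pow x k)
  rcases hall _ (mem_vals hk1) with h | h
  · exact Nat.dvd_antisymm h hd
  · exact absurd (hd.trans h) hab

/-- Two incomparable values dominating all others are coprime. -/
theorem coprime_of_two_max (h4 : (vals G).ncard = 4) {a b : ℕ} (ha : a ∈ vals G) (hb : b ∈ vals G)
    (hab : ¬ a ∣ b) (hba : ¬ b ∣ a) (hall : ∀ v ∈ vals G, v ∣ a ∨ v ∣ b) : a.Coprime b := by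
  have hall' : ∀ v ∈ vals G, v ∣ b ∨ v ∣ a := fun v hv => (hall v hv).symm
  obtain ⟨x, p, hp, hxp, hxa⟩ := exists_prime_rep hab hall ha
  obtain ⟨y, q, hq, hyq, hyb⟩ := exists_prime_rep hba hall' hb
  have hind := index_coprime hG (x := x) (y := y) (by rw [hxa, hyb]; exact hall)
  have hx1 := ne_one_of_prime hp hxp
  have hy1 := ne_one_of_prime hq hyq
  have hqx : q ∣ (Subgroup.centralizer ({x} : Set G)).index := by
    by_contra h
    obtain ⟨g, hg⟩ := exists_conj_commute hq h hyq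
    exact not_coprime_commute hG hy1 (conj_ne_one hx1) hg
      (by rw [index_eq (cn_conj g x)]; exact hind.symm)
  have hpy : p ∣ (Subgroup.centralizer ({y} : Set G)).index := by
    by_contra h
    obtain ⟨g, hg⟩ := exists_conj_commute hp h hxp
    exact not_coprime_commute hG hx1 (conj_ne_one hy1) hg
      (by rw [index_eq (cn_conj g y)]; exact hind)
  have hqy : ¬ q ∣ (Subgroup.centralizer ({y} : Set G)).index := fun h =>
    hq.ne_one (Nat.eq_one_of_dvd_coprimes hind hqx h)
  have hpx : ¬ p ∣ (Subgroup.centralizer ({x} : Set G)).index := fun h =>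
    hp.ne_one (Nat.eq_one_of_dvd_coprimes hind h hpy)
  refine Nat.coprime_of_dvd fun r hr hra hrb => ?_
  have hmain : ∀ {a b : ℕ}, a ∈ vals G → b ∈ vals G → ¬ a ∣ b → ¬ b ∣ a →
      (∀ v ∈ vals G, v ∣ a ∨ v ∣ b) → ∀ {x y : G} {p q : ℕ}, p.Prime → q.Prime → orderOf x = p →
      orderOf y = q → cn x = a → cn y = b →
      ¬ q ∣ (Subgroup.centralizer ({y} : Set G)).index →
      ¬ p ∣ (Subgroup.centralizer ({x} : Set G)).index →
      r ∣ a → ¬ r ∣ (Subgroup.centralizer ({y} : Set G)).index → False := by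
    intro a b ha hb hab hba hall x y p q hp hq hxp hyq hxa hyb hqy hpx hra hry
    have hall' : ∀ v ∈ vals G, v ∣ b ∨ v ∣ a := fun v hv => (hall v hv).symm
    obtain ⟨u, v, hu, hv, hua, hub, hva, hvb, huv, hune, hpu, hsyl, hother⟩ :=
      step hG hab hba hall hp hq hxp hyq hxa hyb hr hra hry
    have hcanon : ∀ u' v', u' ∈ vals G → v' ∈ vals G → u' ≠ a → u' ≠ b → v' ≠ a → v' ≠ b →
        u' ∣ v' → u' ≠ v' → u' = u ∧ v' = v := by
      intro u' v' hu' hv' h1 h2 h3 h4' h5 h6
      have hne : a ≠ b := fun e => hab (e ▸ dvd_rfl)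
      have e1 := eq_of_four h4 ha hb hu hv hu' hne (Ne.symm hua) (Ne.symm hva) (Ne.symm hub)
        (Ne.symm hvb) hune
      have e2 := eq_of_four h4 ha hb hu hv hv' hne (Ne.symm hua) (Ne.symm hva) (Ne.symm hub)
        (Ne.symm hvb) hune
      simp only [h1, h2, false_or] at e1
      simp only [h3, h4', false_or] at e2
      rcases e1 with rfl | rfl <;> rcases e2 with rfl | rfl
      · exact absurd rfl h6
      · exact ⟨rfl, rfl⟩
      · exact absurd (Nat.dvd_antisymm huv h5) hune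
      · exact absurd rfl h6
    rcases hall v hv with hd | hd
    · by_cases hrq : r = q
      · exact hsyl hrq hd
      obtain ⟨u', hu', h1, h2, h3, h5, hqu⟩ := hother hrq
      have hqa : q ∣ a := hqu.trans (h3.trans hd)
      obtain ⟨u2, v2, hu2, hv2, g1, g2, g3, g4, g5, g6, -, hsyl2, -⟩ :=
        step hG hab hba hall hp hq hxp hyq hxa hyb hq hqa hqy
      obtain ⟨-, rfl⟩ := hcanon u2 v2 hu2 hv2 g1 g2 g3 g4 g5 g6
      exact hsyl2 rfl hd
    · have hpb : p ∣ b := hpu.trans (huv.trans hd)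
      obtain ⟨u2, v2, hu2, hv2, g1, g2, g3, g4, g5, g6, -, hsyl2, -⟩ :=
        step hG hba hab hall' hq hp hyq hxp hyb hxa hp hpb hpx
      obtain ⟨-, rfl⟩ := hcanon u2 v2 hu2 hv2 g2 g1 g4 g3 g5 g6
      exact hsyl2 rfl hd
  by_cases hry : r ∣ (Subgroup.centralizer ({y} : Set G)).index
  · exact hmain hb ha hba hab hall' hq hp hyq hxp hyb hxa hpx hqy hrb
      fun h => hr.ne_one (Nat.eq_one_of_dvd_coprimes hind h hry)
  · exact hmain ha hb hab hba hall hp hq hxp hyq hxa hyb hqy hpx hra hry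

set_option maxHeartbeats 400000 in
/-- Below the value of an involution there is at most one other value. -/
theorem lower_unique (h4 : (vals G).ncard = 4) {t : G} (ht : orderOf t = 2) {c₁ c₂ : ℕ}
    (h₁ : c₁ ∈ vals G) (h₂ : c₂ ∈ vals G) (d₁ : c₁ ∣ cn t) (d₂ : c₂ ∣ cn t)
    (n₁ : c₁ ≠ cn t) (n₂ : c₂ ≠ cn t) : c₁ = c₂ := by
  classical
  by_contra hne
  have ht1 : t ≠ 1 := ne_one_of_prime Nat.prime_two ht
  set a := cn t with ha
  obtain ⟨y0, hy0, hb⟩ : ∃ y : G, y ≠ 1 ∧ ¬ cn y ∣ a := by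
    by_contra! h
    exact no_one_max hG ht1 h
  set b := cn y0 with hbd
  have hb1 : b ≠ a := fun e => hb (e ▸ dvd_rfl)
  have hb2 : b ≠ c₁ := fun e => hb (e ▸ d₁)
  have hb3 : b ≠ c₂ := fun e => hb (e ▸ d₂)
  have hV : ∀ v ∈ vals G, v = a ∨ v = b ∨ v = c₁ ∨ v = c₂ := fun v hv =>
    eq_of_four h4 (mem_vals ht1) (mem_vals hy0) h₁ h₂ hv hb1.symm n₁.symm n₂.symm hb2 hb3 hne
  have hab : ¬ a ∣ b := fun h => no_one_max hG hy0 fun x hx => by
    rcases hV _ (mem_vals hx) with e | e | e | e <;> rw [e]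
    · exact h
    · exact d₁.trans h
    · exact d₂.trans h
  have hall : ∀ v ∈ vals G, v ∣ a ∨ v ∣ b := fun v hv => by
    rcases hV v hv with rfl | rfl | rfl | rfl
    · exact Or.inl dvd_rfl
    · exact Or.inr dvd_rfl
    · exact Or.inl d₁
    · exact Or.inl d₂
  have hcop := coprime_of_two_max hG h4 (mem_vals ht1) (mem_vals hy0) hab hb hall
  have hind := index_coprime hG (x := t) (y := y0) hall
  set ia := (Subgroup.centralizer ({t} : Set G)).index with hia
  set ib := (Subgroup.centralizer ({y0} : Set G)).index with hib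
  have hga : a * ia = Nat.card G := cn_mul_index t
  have hgb : b * ib = Nat.card G := cn_mul_index y0
  have e2 : ib = a := Nat.dvd_antisymm
    ((hind.symm).dvd_of_dvd_mul_right (m := a) ⟨b, by rw [hga, ← hgb, mul_comm b ib]⟩)
    (hcop.dvd_of_dvd_mul_right (m := ib) ⟨ia, by rw [hga, ← hgb, mul_comm b ib]⟩)
  have e1 : ia = b := by
    refine Nat.eq_of_mul_eq_mul_left (cn_pos t) ?_
    rw [← ha, hga, ← hgb, e2, mul_comm]
  -- the only value divisible by, or dividing, `b` is `b`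
  have honly : ∀ v ∈ vals G, b ∣ v ∨ v ∣ b → v = b := by
    intro v hv h
    have hnl : ∀ c ∈ vals G, c ∣ a → ¬ c ∣ b := fun c hc hca hcb => by
      have := Nat.eq_one_of_dvd_coprimes hcop hca hcb
      have := two_le_of_mem hc
      omega
    rcases hV v hv with rfl | rfl | rfl | rfl
    · exact absurd h (not_or.2 ⟨hb, hnl _ (mem_vals ht1) dvd_rfl⟩)
    · rfl
    · exact absurd h (not_or.2 ⟨fun hh => hb (hh.trans d₁), hnl _ h₁ d₁⟩)
    · exact absurd h (not_or.2 ⟨fun hh => hb (hh.trans d₂), hnl _ h₂ d₂⟩)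
  obtain ⟨q, k, hq, hk, hk1⟩ := exists_prime_pow hy0
  set y := y0 ^ k with hy
  have hyb : cn y = b := honly _ (mem_vals hk1) (Or.inl (cn_dvd_of_le (cen_le_pow y0 k)))
  set B := Subgroup.centralizer ({y} : Set G) with hB
  -- elements of coprime prime orders
  have hsame : ∀ α β : G, (orderOf α).Prime → (orderOf β).Prime → orderOf α ≠ orderOf β →
      Subgroup.centralizer ({α} : Set G) = B → β ∈ B →
      Subgroup.centralizer ({β} : Set G) = B := by
    intro α β hα hβ hne eα hβB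
    have hc : Commute α β := mem_cen.1 (eα ▸ hβB)
    have hco : (orderOf α).Coprime (orderOf β) := (Nat.coprime_primes hα hβ).2 hne
    have hC := cen_mul_eq hc hco
    have hne1 : α * β ≠ 1 := fun e => by
      have := hc.orderOf_mul_eq_mul_orderOf_of_coprime hco
      rw [e, orderOf_one] at this
      exact hα.ne_one (Nat.eq_one_of_mul_eq_one_right this.symm)
    have e := honly _ (mem_vals hne1) (Or.inr
      (hyb ▸ cn_dvd_of_le (hC.le.trans (inf_le_left.trans eα.le))))
    have hβ1 : β ≠ 1 := ne_one_of_prime hβ rfl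
    have eb := honly _ (mem_vals hβ1) (Or.inl (e ▸ cn_dvd_of_le (hC.le.trans inf_le_right)))
    rw [← eq_of_le_cn (hC.le.trans inf_le_right) (e.trans eb.symm),
      eq_of_le_cn (hC.le.trans inf_le_left) (e.trans (hyb.symm.trans
        (by rw [cn, cn, eα]))), eα]
  obtain ⟨l, hl, hld, hlq⟩ := exists_other_prime hG ht1 hq
  rw [← hia, e1] at hld
  haveI := Fact.mk hl
  obtain ⟨ρ, hρ⟩ := exists_prime_orderOf_dvd_card' (G := B) l
    (show l ∣ cn y by rwa [hyb])
  rw [← Subgroup.orderOf_coe] at hρ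
  have eρ : Subgroup.centralizer ({(ρ : G)} : Set G) = B :=
    hsame y ρ (hk ▸ hq) (hρ ▸ hl) (by rw [hk, hρ]; exact Ne.symm hlq) rfl ρ.2
  have hprime : ∀ β ∈ B, (orderOf β).Prime → Subgroup.centralizer ({β} : Set G) = B := by
    intro β hβ hβp
    by_cases e : orderOf β = q
    · exact hsame ρ β (hρ ▸ hl) hβp (by rw [hρ, e]; exact hlq) eρ hβ
    · exact hsame y β (hk ▸ hq) hβp (by rw [hk]; exact Ne.symm e) rfl hβ
  have hCC : ∀ β ∈ B, β ≠ 1 → Subgroup.centralizer ({β} : Set G) = B := by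
    intro β hβ hβ1
    obtain ⟨p, j, hp, hj, hj1⟩ := exists_prime_pow hβ1
    have e := hprime _ (B.pow_mem hβ j) (hj ▸ hp)
    have hle : Subgroup.centralizer ({β} : Set G) ≤ B := e ▸ cen_le_pow β j
    refine eq_of_le_cn hle ?_
    exact (honly _ (mem_vals hβ1) (Or.inr (hyb ▸ cn_dvd_of_le hle))).trans hyb.symm
  have hBidx : B.index = a := by rw [hB, index_eq hyb, ← hib, e2]
  have hBcard : Nat.card B = b := hyb
  -- the involution is isolated in a Sylow subgroup
  have hodd : ¬ 2 ∣ ia := fun h => by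
    have := Nat.eq_one_of_dvd_coprimes hcop (ht ▸ orderOf_dvd_cn t) (h.trans (dvd_of_eq e1))
    omega
  obtain ⟨S, hS⟩ := exists_sylow_le (p := 2) hodd
  have htS : t ∈ (S : Subgroup G) := mem_of_full S.2 hS (by
      have h1 := S.card_eq_multiplicity
      rw [h1, ← hga, Nat.factorization_mul (cn_pos t).ne' Subgroup.index_ne_zero_of_finite,
        Finsupp.add_apply, Nat.factorization_eq_zero_of_not_dvd hodd, add_zero]
      rfl) (mem_self t) (k := 1) (by rw [ht, pow_one])
    (Subgroup.centralizer_le_normalizer _ (Subgroup.mem_centralizer_iff.2 fun z hz =>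
      (mem_cen.1 (hS hz)).symm))
  obtain ⟨g, hgS, hgne⟩ := Inv59.EightAuto.no_isolated hG S ht htS
  apply hgne
  haveI := Fintype.ofFinite G
  haveI : Fintype (Cfsg.IrrCharacter G) := Fintype.ofFinite _
  have h := unique_commuting hG B (cc_comm hCC) hCC (by rw [hBidx, hBcard]; exact hcop.symm) ht1
    (x := t) (d := t) (by rw [hBcard, ← hia, e1]) (by rw [hBcard, ← hia, e1]) (v := g) (w := 1)
    (show Commute t (g * t * g⁻¹) from mem_cen.1 (hS hgS)) (by simp)
  simpa using h

/-- All involutions have the same value below them. -/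
theorem lower_global (h4 : (vals G).ncard = 4) {t i : G} (ht : orderOf t = 2) (hi : orderOf i = 2)
    {c₁ c₂ : ℕ} (h₁ : c₁ ∈ vals G) (h₂ : c₂ ∈ vals G) (d₁ : c₁ ∣ cn t) (d₂ : c₂ ∣ cn i)
    (n₁ : c₁ ≠ cn t) (n₂ : c₂ ≠ cn i) : c₁ = c₂ := by
  by_contra hne
  have ht1 : t ≠ 1 := ne_one_of_prime Nat.prime_two ht
  have hi1 : i ≠ 1 := ne_one_of_prime Nat.prime_two hi
  set a := cn t with ha
  set a' := cn i with ha'
  have haa : a ≠ a' := fun e => hne (lower_unique hG h4 ht h₁ h₂ d₁ (by rw [← ha, e]; exact d₂) n₁ (by rw [← ha, e]; exact n₂))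
  have h1 : c₁ ≠ a' := fun e => hne (lower_unique hG h4 ht h₁ h₂ d₁ (d₂.trans (e ▸ d₁)) n₁
    fun e2 => haa (Nat.dvd_antisymm (by rw [e2] at d₂; exact d₂) (by rw [e] at d₁; exact d₁)))
  have h2 : c₂ ≠ a := fun e => hne (lower_unique hG h4 hi h₁ h₂ (d₁.trans (e ▸ d₂)) d₂
    (fun e2 => haa (Nat.dvd_antisymm (by rw [e] at d₂; exact d₂) (by rw [e2] at d₁; exact d₁))) n₂)
  have hab : ¬ a ∣ a' := fun h => n₁ (lower_unique hG h4 hi h₁ (mem_vals ht1)
    (d₁.trans h) h h1 haa)
  have hba : ¬ a' ∣ a := fun h => n₂ (lower_unique hG h4 ht h₂ (mem_vals hi1)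
    (d₂.trans h) h h2 haa.symm)
  have hall : ∀ v ∈ vals G, v ∣ a ∨ v ∣ a' := fun v hv => by
    rcases eq_of_four h4 (mem_vals ht1) (mem_vals hi1) h₁ h₂ hv haa n₁.symm h2.symm h1.symm
      n₂.symm hne with rfl | rfl | rfl | rfl
    · exact Or.inl dvd_rfl
    · exact Or.inr dvd_rfl
    · exact Or.inl d₁
    · exact Or.inr d₂
  have h := coprime_of_two_max hG h4 (mem_vals ht1) (mem_vals hi1) hab hba hall
  have := Nat.eq_one_of_dvd_coprimes h (ht ▸ orderOf_dvd_cn t) (hi ▸ orderOf_dvd_cn i)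
  omega

end Cfsg.Agent.Lib.RankFour54.Cross
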