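import Mathlib
import Cfsg.Agent.Lib.RankFour54.Basic
import Cfsg.Agent.Lib.PrimePowerClass.Radical
import Cfsg.Agent.Lib.PrimePowerClass.Basic
import Cfsg.Agent.Lib.Involutions.Basic
import Cfsg.Agent.Lib.PGroups.Omega
import Cfsg.Agent.Lib.LAEven54.Inverted
import Cfsg.Agent.Lib.Coprime.Glauberman
import Cfsg.Agent.S0144
import Cfsg.Agent.S0199
import Cfsg.Agent.S0022
import Cfsg.Agent.Lib.OddOrder.FeitThompson

/-!
# Groups whose non-central elements of odd order have one centraliser order are solvable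

Write `D` for the centraliser of a non-central element of odd order.  A group that is not solvable
has an element inverting a non-central element of odd order and, by Kazarin's theorem, an odd
prime `s` dividing the class size.  The elements of odd order of `D` are central in `D`.  An
`s`-element normalising the `s`-part of `D` and the inverting element then have incompatible
actions.
-/

set_option autoImplicit false
set_option linter.style.haveILetI false
set_option linter.unusedSectionVars false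

namespace Cfsg.Agent.Lib.RankFour54.Solv

open Cfsg.Agent.Lib.ClassSizes.Basic
open Cfsg.Agent.Lib.Inv59.RankThree
open Cfsg.Agent.Lib.RankFour54
open Cfsg.Agent.Lib.PrimePowerClass
open scoped Pointwise

universe u

variable {G : Type u} [Group G] [Finite G]

theorem isSolvable_of_quot {N : Subgroup G} [N.Normal] (h1 : Group.IsSolvable N)
    (h2 : Group.IsSolvable (G ⧸ N)) : Group.IsSolvable G := by
  haveI := h1
  haveI := h2
  exact Group.isSolvable_of_ker_le_range N.subtype (QuotientGroup.mk' N) (by simp)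

theorem center_le_solRad : Subgroup.center G ≤ Radical.solRad G :=
  Radical.le_solRad (Group.isSolvable_of_comm fun a b =>
    Subtype.ext (Subgroup.mem_center_iff.1 b.2 a))

/-- A non-solvable group has an element of odd order outside the solvable radical which is
inverted by some element. -/
theorem exists_inverted (hns : ¬ Group.IsSolvable G) :
    ∃ u r : G, Odd (orderOf r) ∧ r ∉ Radical.solRad G ∧ u * r * u⁻¹ = r⁻¹ := by
  classical
  set R := Radical.solRad G with hR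
  set q := QuotientGroup.mk' R with hq
  have hqs : Function.Surjective q := QuotientGroup.mk'_surjective R
  have hev : 2 ∣ Nat.card (G ⧸ R) := by
    by_contra h
    exact hns (isSolvable_of_quot Radical.solRad_isSolvable
      (Cfsg.Agent.Lib.OddOrder.FeitThompson.isSolvable_of_odd_card
        (Nat.not_even_iff_odd.1 fun e => h (even_iff_two_dvd.1 e))))
  obtain ⟨τ, hτ⟩ := exists_prime_orderOf_dvd_card' (G := G ⧸ R) 2 hev
  have hτ1 : τ ≠ 1 := ne_one_of_prime Nat.prime_two hτ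
  obtain ⟨g, hg⟩ : ∃ g : G ⧸ R, ¬ IsPGroup 2 (Subgroup.zpowers τ ⊔
      (Subgroup.zpowers τ).map (MulAut.conj g).toMonoidHom : Subgroup (G ⧸ R)) := by
    by_contra! hall
    obtain ⟨N, hN, hNp, hτN⟩ := Cfsg.Agent.S0199.result (Subgroup.zpowers τ)
      (isPGroup_zpowers (k := 1) (by rw [hτ, pow_one])) hall
    haveI := hN
    haveI : Fact (Nat.Prime 2) := ⟨Nat.prime_two⟩
    haveI := hNp.isNilpotent
    have hsolv : Group.IsSolvable (N.comap q) := by
      refine Radical.isSolvable_of_map q _ ?_ ?_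
      · haveI := Radical.solRad_isSolvable (G := G)
        exact Group.isSolvable_of_isSolvable_injective
          (f := Subgroup.inclusion (show q.ker ⊓ N.comap q ≤ R by
            rw [hq, QuotientGroup.ker_mk']; exact inf_le_left)) (Subgroup.inclusion_injective _)
      · rw [Subgroup.map_comap_eq_self_of_surjective hqs]
        infer_instance
    obtain ⟨x, hx⟩ := hqs τ
    have hxR : x ∈ R := Radical.le_solRad (N := N.comap q) hsolv
      (by rw [Subgroup.mem_comap, hx]; exact hτN (Subgroup.mem_zpowers τ))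
    exact hτ1 (by rw [← hx]; exact (QuotientGroup.eq_one_iff x).2 hxR)
  set σ := g * τ * g⁻¹ with hσd
  have hσ : orderOf σ = 2 := by rw [hσd, orderOf_conj, hτ]
  have hτσ : Subgroup.zpowers τ ⊔ (Subgroup.zpowers τ).map (MulAut.conj g).toMonoidHom
      ≤ Subgroup.closure ({τ, σ} : Set (G ⧸ R)) := by
    rw [MonoidHom.map_zpowers]
    exact sup_le (Subgroup.zpowers_le.2 (Subgroup.subset_closure (by simp)))
      (Subgroup.zpowers_le.2 (Subgroup.subset_closure (by simp [hσd])))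
  have hcl : ¬ IsPGroup 2 (Subgroup.closure ({τ, σ} : Set (G ⧸ R))) := fun h => hg (h.to_le hτσ)
  set ρ := τ * σ with hρ
  obtain ⟨p, hp, hp2, hpd⟩ : ∃ p, p.Prime ∧ p ≠ 2 ∧ p ∣ orderOf ρ := by
    by_contra! h
    apply hcl
    have h2 := Nat.eq_prime_pow_of_unique_prime_dvd (orderOf_pos ρ).ne'
      (p := 2) fun {d} hd hdvd => by_contra fun e => h d hd e hdvd
    refine IsPGroup.of_card (n := (orderOf ρ).primeFactorsList.length + 1) ?_
    rw [Involutions.Basic.card_closure_pair hτ hσ, pow_succ']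
    exact congrArg (2 * ·) h2
  haveI := Fact.mk hp
  obtain ⟨j, hj, hj1⟩ := exists_pow_of_dvd hp hpd
  have hτt : τ * τ = 1 := Involutions.Basic.invol_mul_self hτ
  -- a lift of prime power order
  obtain ⟨z, y, hzy, hyp, hy1, hinv, k0, hzo⟩ : ∃ z y, q z = y ∧ orderOf y = p ∧ y ≠ 1 ∧
      τ * y * τ = y⁻¹ ∧ ∃ k : ℕ, orderOf z = p ^ k := by
    obtain ⟨z0, hz0⟩ := hqs (ρ ^ j)
    obtain ⟨i, m, hm, hi⟩ := Nat.exists_eq_pow_mul_and_not_dvd (orderOf_pos z0).ne' p hp.ne_one
    have hm0 : m ≠ 0 := by rintro rfl; exact hm (dvd_zero p)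
    have hq0 : q (z0 ^ m) = ρ ^ (j * m) := by rw [map_pow, hz0, pow_mul]
    refine ⟨z0 ^ m, _, hq0, ?_, fun e => hm ?_, ?_, i, ?_⟩
    · rw [pow_mul]
      exact (Nat.Coprime.orderOf_pow (by rw [hj]; exact hp.coprime_iff_not_dvd.2 hm)).trans hj
    · rw [pow_mul] at e
      exact hj ▸ orderOf_dvd_of_pow_eq_one e
    · have h1 := Involutions.Basic.invert_mul hτt (Involutions.Basic.invol_mul_self hσ)
      have h2 := Involutions.Basic.invert_zpow hτt h1 ((j * m : ℕ) : ℤ)
      rw [zpow_natCast, zpow_neg, zpow_natCast] at h2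
      exact h2
    · rw [orderOf_pow_of_dvd hm0 (hi ▸ Dvd.intro_left _ rfl), hi,
        Nat.mul_div_cancel _ (Nat.pos_of_ne_zero hm0)]
  have hj : orderOf y = p := hyp
  -- the preimage of the inverted subgroup
  set M := (Subgroup.zpowers y).comap q with hM
  obtain ⟨w, hw⟩ := hqs τ
  have hτi : τ⁻¹ = τ := Involutions.Basic.invol_inv hτ
  have hτM : ∀ x ∈ Subgroup.zpowers y, τ * x * τ ∈ Subgroup.zpowers y := by
    intro x hx
    obtain ⟨i, rfl⟩ := Subgroup.mem_zpowers_iff.1 hx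
    rw [Involutions.Basic.invert_zpow hτt hinv i]
    exact Subgroup.zpow_mem _ (Subgroup.mem_zpowers y) _
  have hwM : w ∈ Subgroup.normalizer (M : Set G) := by
    rw [Subgroup.mem_normalizer_iff]
    intro m
    simp only [hM, Subgroup.mem_comap, map_mul, map_inv, hw, hτi]
    refine ⟨hτM _, fun h => ?_⟩
    have := hτM _ h
    rwa [show τ * (τ * q m * τ) * τ = (τ * τ) * q m * (τ * τ) by group, hτt, one_mul, mul_one] at this
  have hzM : z ∈ M := by rw [hM, Subgroup.mem_comap, hzy]; exact Subgroup.mem_zpowers y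
  obtain ⟨P', hzP, hP'M, hP'p, hP'card⟩ :=
    exists_full (isPGroup_zpowers hzo) (Subgroup.zpowers_le.2 hzM)
  -- Frattini
  obtain ⟨w1, hw1, i, hi⟩ : ∃ w1 : G, w1 ∈ Subgroup.normalizer (P' : Set G) ∧
      ∃ i : ℤ, q w1 = y ^ i * τ := by
    obtain ⟨P1, hP1⟩ := Coprime.exists_sylow_of_card hP'M hP'card
    obtain ⟨P2, hP2⟩ := Coprime.exists_sylow_of_card (p := p) (H := MulAut.conj w • P')
      ((Subgroup.pointwise_smul_le_pointwise_smul_iff.mpr hP'M).trans_eq
        (Coprime.conj_smul_eq_self_of_mem_normalizer hwM))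
      (by rw [Coprime.card_conj_smul, hP'card])
    obtain ⟨m, hmM, hm⟩ := Coprime.exists_conj_sylow_map P2 P1
    rw [hP1, hP2, ← Coprime.conj_smul_mul] at hm
    refine ⟨m * w, Coprime.mem_normalizer_of_conj_smul_eq hm, ?_⟩
    obtain ⟨i, hi⟩ := Subgroup.mem_zpowers_iff.1 (show q m ∈ Subgroup.zpowers y from hmM)
    exact ⟨i, by rw [map_mul, hw, hi]⟩
  have hsq : q (w1 * w1) = 1 := by
    rw [map_mul, hi]
    have h := Involutions.Basic.invert_zpow hτt hinv i
    calc y ^ i * τ * (y ^ i * τ) = y ^ i * (τ * y ^ i * τ) := by group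
      _ = 1 := by rw [h, ← zpow_add, add_neg_cancel, zpow_zero]
  obtain ⟨m, hmodd, k, hk⟩ := LAEven54.Inverted.exists_two_part w1
  set u := w1 ^ m with hu
  have hqu : q u = y ^ i * τ := by
    obtain ⟨m', rfl⟩ := hmodd
    rw [hu, pow_succ, pow_mul, map_mul, map_pow, sq, hsq, one_pow, one_mul, hi]
  have hqu_inv : q u * y * (q u)⁻¹ = y⁻¹ := by
    rw [hqu, mul_inv_rev, hτi]
    calc y ^ i * τ * y * (τ * (y ^ i)⁻¹) = y ^ i * (τ * y * τ) * (y ^ i)⁻¹ := by group
      _ = y⁻¹ := by rw [hinv]; group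
  have huP : u ∈ Subgroup.normalizer (P' : Set G) := pow_mem hw1 m
  obtain ⟨y0, hy0P, hy0⟩ : ∃ y0 ∈ P', q y0 = y := ⟨z, hzP (Subgroup.mem_zpowers z), hzy⟩
  -- coprime fixed points of `u ^ 2`
  have hu2R : u * u ∈ R := by
    rw [← QuotientGroup.eq_one_iff]
    show q (u * u) = 1
    rw [map_mul, hqu]
    calc y ^ i * τ * (y ^ i * τ) = y ^ i * (τ * y ^ i * τ) := by group
      _ = 1 := by rw [Involutions.Basic.invert_zpow hτt hinv i, ← zpow_add, add_neg_cancel,
        zpow_zero]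
  obtain ⟨c, ⟨hcP, hcfix⟩, hcy⟩ := Cfsg.Agent.S0022.result (Subgroup.zpowers (u * u)) P'
    (Subgroup.zpowers_le.2 (Subgroup.mul_mem _ huP huP))
    (by
      obtain ⟨n, hn⟩ := IsPGroup.iff_card.1 hP'p
      rw [Nat.card_zpowers, hn]
      refine Nat.Coprime.coprime_dvd_left (show orderOf (u * u) ∣ 2 ^ k from ?_) ?_
      · rw [← hk, ← sq]; exact orderOf_pow_dvd 2
      · exact Nat.Coprime.pow _ _ ((Nat.coprime_primes Nat.prime_two hp).2 (Ne.symm hp2)))
    (Or.inr (by haveI := hP'p.isNilpotent; infer_instance))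
    (R ⊓ P') inf_le_right
    (fun x hx => by
      rw [Subgroup.mem_normalizer_iff]
      intro z
      constructor
      · exact fun h => ⟨(Radical.solRad_normal (G := G)).conj_mem z h.1 x,
          P'.mul_mem (P'.mul_mem hx h.2) (P'.inv_mem hx)⟩
      · intro h
        have h1 := (Radical.solRad_normal (G := G)).conj_mem _ h.1 x⁻¹
        have h2 := P'.mul_mem (P'.mul_mem (P'.inv_mem hx) h.2) hx
        exact ⟨by simpa [mul_assoc] using h1, by simpa [mul_assoc] using h2⟩)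
    (by
      rw [Subgroup.zpowers_le, Subgroup.mem_normalizer_iff]
      intro z
      have hn := Subgroup.mem_normalizer_iff.1 (Subgroup.mul_mem _ huP huP) z
      constructor
      · exact fun h => ⟨(Radical.solRad_normal (G := G)).conj_mem z h.1 _, hn.1 h.2⟩
      · intro h
        have h1 := (Radical.solRad_normal (G := G)).conj_mem _ h.1 (u * u)⁻¹
        exact ⟨by simpa [mul_assoc] using h1, hn.2 h.2⟩)
    y0 hy0P
    (fun a ha => by
      have haR : a ∈ R := Subgroup.zpowers_le.2 hu2R ha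
      have haN : a ∈ Subgroup.normalizer (P' : Set G) :=
        Subgroup.zpowers_le.2 (Subgroup.mul_mem _ huP huP) ha
      refine ⟨?_, P'.mul_mem ((Subgroup.mem_normalizer_iff.1 haN y0).1 hy0P) (P'.inv_mem hy0P)⟩
      have h := R.mul_mem haR ((Radical.solRad_normal (G := G)).conj_mem _ (R.inv_mem haR) y0)
      simpa [mul_assoc] using h)
  have hqc : q c = y := by
    have h : q (y0⁻¹ * c) = 1 := (QuotientGroup.eq_one_iff _).2 hcy.1
    rw [map_mul, map_inv, hy0, inv_mul_eq_one] at h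
    exact h.symm
  have hcc : u * u * c * (u * u)⁻¹ = c := by
    rw [Subgroup.mem_centralizer_iff.1 hcfix _ (Subgroup.mem_zpowers _)]; group
  have hconj : u * (u * c * u⁻¹) * u⁻¹ = c := by
    conv_rhs => rw [← hcc]
    group
  refine ⟨u, c⁻¹ * (u * c * u⁻¹), ?_, ?_, ?_⟩
  · obtain ⟨n, hn⟩ := exists_orderOf_eq hP'p
      (P'.mul_mem (P'.inv_mem hcP) ((Subgroup.mem_normalizer_iff.1 huP c).1 hcP))
    rw [hn]
    exact (hp.odd_of_ne_two hp2).pow
  · intro h
    have h1 : q (c⁻¹ * (u * c * u⁻¹)) = 1 := (QuotientGroup.eq_one_iff _).2 h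
    rw [map_mul, map_inv, map_mul, map_mul, map_inv, hqc, hqu_inv, ← mul_inv_rev, inv_eq_one,
      ← sq] at h1
    have h2 : p ∣ 2 := hj ▸ orderOf_dvd_of_pow_eq_one h1
    exact hp2 ((Nat.prime_dvd_prime_iff_eq hp Nat.prime_two).1 h2)
  · calc u * (c⁻¹ * (u * c * u⁻¹)) * u⁻¹
        = (u * c * u⁻¹)⁻¹ * (u * (u * c * u⁻¹) * u⁻¹) := by group
      _ = (c⁻¹ * (u * c * u⁻¹))⁻¹ := by rw [hconj]; group

/-- An element is central if it is fixed by conjugation. -/
theorem commute_of_conj {g a : G} (h : g * a * g⁻¹ = a) :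
    g ∈ Subgroup.centralizer ({a} : Set G) :=
  mem_cen.2 (mul_inv_eq_iff_eq_mul.1 h).symm

set_option maxHeartbeats 1000000 in
/-- A group in which all non-central elements of odd order have centralisers of the same order
is solvable. -/
theorem isSolvable_of_one_order (k : ℕ)
    (h : ∀ x : G, Odd (orderOf x) → x ∉ Subgroup.center G → cn x = k) : Group.IsSolvable G := by
  classical
  by_contra hns
  set Z := Subgroup.center G with hZ
  obtain ⟨u, r, hr, hrR, hur⟩ := exists_inverted hns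
  have hrZ : r ∉ Z := fun hh => hrR (center_le_solRad hh)
  set n := (Subgroup.centralizer ({r} : Set G)).index with hn
  have hk : cn r = k := h r hr hrZ
  have heqle : ∀ x y : G, Odd (orderOf x) → x ∉ Z → Odd (orderOf y) → y ∉ Z →
      Subgroup.centralizer ({x} : Set G) ≤ Subgroup.centralizer ({y} : Set G) →
      Subgroup.centralizer ({x} : Set G) = Subgroup.centralizer ({y} : Set G) :=
    fun x y hx hxZ hy hyZ hle => eq_of_le_cn hle ((h x hx hxZ).trans (h y hy hyZ).symm)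
  have hpair : ∀ x y : G, Odd (orderOf x) → x ∉ Z → Odd (orderOf y) → y ∉ Z → Commute x y →
      (orderOf x).Coprime (orderOf y) →
      Subgroup.centralizer ({x} : Set G) = Subgroup.centralizer ({y} : Set G) := by
    intro x y hx hxZ hy hyZ hc hcop
    have hC := cen_mul_eq hc hcop
    have hxy : x * y ∉ Z := fun hh => hxZ (by
      obtain ⟨i, hi⟩ := mem_powers_of_commute_coprime hc hcop
      rw [← hi]
      exact Z.pow_mem hh i)
    rw [← heqle _ x (odd_orderOf_mul hc hx hy) hxy hx hxZ (hC.le.trans inf_le_left),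
      heqle _ y (odd_orderOf_mul hc hx hy) hxy hy hyZ (hC.le.trans inf_le_right)]
  -- an odd prime dividing the class size
  obtain ⟨s, hs, hs2, hsn⟩ : ∃ s, s.Prime ∧ s ≠ 2 ∧ s ∣ n := by
    by_contra! hno
    apply hrR
    exact Basic.mem_solRad Nat.prime_two r (Nat.eq_prime_pow_of_unique_prime_dvd
      Subgroup.index_ne_zero_of_finite fun {d} hd hdvd => by_contra fun e => hno d hd e hdvd)
  haveI := Fact.mk hs
  have hsodd : Odd s := hs.odd_of_ne_two hs2
  have hpodd : ∀ {p i : ℕ} {x : G}, p.Prime → p ≠ 2 → orderOf x = p ^ i → Odd (orderOf x) :=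
    fun hp hp2 e => e ▸ (hp.odd_of_ne_two hp2).pow
  -- centralisers contain non-central elements of each relevant prime
  have hexist : ∀ {p i : ℕ} {y : G}, p.Prime → p ≠ 2 → orderOf y = p ^ i → y ∉ Z →
      ∀ x : G, Odd (orderOf x) → x ∉ Z →
        ∃ y' ∈ Subgroup.centralizer ({x} : Set G), (∃ j, orderOf y' = p ^ j) ∧ y' ∉ Z := by
    intro p i y hp hp2 hyo hy x hx hxZ
    haveI := Fact.mk hp
    obtain ⟨S, -, hSH, hSp, hScard⟩ :=
      exists_full (p := p) (H := Subgroup.centralizer ({x} : Set G)) IsPGroup.of_bot bot_le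
    by_contra! hno
    have hSZ : S ≤ Z := fun z hz => by
      obtain ⟨j, hj⟩ := exists_orderOf_eq hSp hz
      exact hno z (hSH hz) ⟨j, hj⟩
    have hSy : S ≤ Subgroup.centralizer ({y} : Set G) := fun z hz =>
      mem_cen.2 (Subgroup.mem_center_iff.1 (hSZ hz) y)
    refine hy (hSZ (mem_of_full hSp hSy ?_ (mem_self y) hyo ?_))
    · rw [hScard, show Nat.card (Subgroup.centralizer ({y} : Set G)) = cn y from rfl,
        h y (hpodd hp hp2 hyo) hy, show Nat.card (Subgroup.centralizer ({x} : Set G)) = cn x from rfl,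
        h x hx hxZ]
    · rw [Subgroup.mem_normalizer_iff]
      intro z
      constructor
      · intro hz
        rw [Subgroup.mem_center_iff.1 (hSZ hz) y, mul_inv_cancel_right]
        exact hz
      · intro hz
        have e := Subgroup.mem_center_iff.1 (hSZ hz) y
        have : z = y * z * y⁻¹ := by
          calc z = y⁻¹ * ((y * z * y⁻¹) * y) := by group
            _ = y⁻¹ * (y * (y * z * y⁻¹)) := by rw [e]
            _ = y * z * y⁻¹ := by group
        exact this ▸ hz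
  obtain ⟨ys, js, hys, hysZ⟩ : ∃ (y : G) (j : ℕ), orderOf y = s ^ j ∧ y ∉ Z := by
    by_contra! hno
    obtain ⟨S⟩ : Nonempty (Sylow s G) := inferInstance
    refine not_dvd_of_sylow_le S (fun z hz => mem_cen.2 ?_) hsn
    obtain ⟨j, hj⟩ := exists_orderOf_eq S.2 hz
    exact Subgroup.mem_center_iff.1 (hno z j hj) r
  obtain ⟨q, hq, hq2, hqs, yq, jq, hyq, hyqZ⟩ : ∃ q, q.Prime ∧ q ≠ 2 ∧ q ≠ s ∧
      ∃ (y : G) (j : ℕ), orderOf y = q ^ j ∧ y ∉ Z := by
    by_contra! hno
    apply hns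
    have hdiv : ∀ p : ℕ, p.Prime → p ∣ Z.index → p = 2 ∨ p = s := by
      intro p hp hd
      by_contra! hc
      haveI := Fact.mk hp
      obtain ⟨S⟩ : Nonempty (Sylow p G) := inferInstance
      refine not_dvd_of_sylow_le S (fun z hz => ?_) hd
      obtain ⟨j, hj⟩ := exists_orderOf_eq S.2 hz
      exact hno p hp hc.1 hc.2 z j hj
    set N := Z.index with hN
    have hN0 : N ≠ 0 := Subgroup.index_ne_zero_of_finite
    obtain ⟨b, m, hm, hb⟩ := Nat.exists_eq_pow_mul_and_not_dvd hN0 s hs.ne_one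
    have hm0 : m ≠ 0 := by rintro rfl; exact hm (dvd_zero s)
    have hm2 := Nat.eq_prime_pow_of_unique_prime_dvd hm0 (p := 2) fun {d} hd hdvd =>
      (hdiv d hd (hb ▸ dvd_mul_of_dvd_right hdvd _)).resolve_right fun e => hm (e ▸ hdvd)
    refine isSolvable_of_quot (N := Z) (Group.isSolvable_of_comm fun a b =>
      Subtype.ext (Subgroup.mem_center_iff.1 b.2 a)) ?_
    exact Cfsg.Agent.S0144.result 2 s _ b Nat.prime_two hs
      (show Nat.card (G ⧸ Z) = _ by rw [← Subgroup.index, ← hN, hb, hm2, mul_comm])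
  haveI := Fact.mk hq
  set D := Subgroup.centralizer ({r} : Set G) with hD
  -- `D` is the centraliser of elements of two different primes
  obtain ⟨b, hbD, ⟨jb, hbo⟩, hbZ⟩ := hexist hq hq2 hyq hyqZ r hr hrZ
  obtain ⟨p1, i1, e1, hp1, hx1o, hx1Z⟩ :
      ∃ (p i e : ℕ), p.Prime ∧ orderOf (r ^ e) = p ^ i ∧ r ^ e ∉ Z := by
    by_contra! hno
    exact hrZ (mem_of_parts Z fun e p i hp he => hno p i e hp he)
  set x1 := r ^ e1 with hx1
  have hx1odd : Odd (orderOf x1) := odd_orderOf_pow hr e1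
  have hx1D : Subgroup.centralizer ({x1} : Set G) = D :=
    (heqle r x1 hr hrZ hx1odd hx1Z (cen_le_pow r e1)).symm
  have hcoppow : ∀ {a b i j : ℕ}, a.Prime → b.Prime → a ≠ b → (a ^ i).Coprime (b ^ j) :=
    fun ha hb hne => Nat.Coprime.pow _ _ ((Nat.coprime_primes ha hb).2 hne)
  obtain ⟨p2, i2, x2, hp2, hp12, hx2o, hx2odd, hx2Z, hx2D⟩ :
      ∃ (p i : ℕ) (x : G), p.Prime ∧ p ≠ p1 ∧ orderOf x = p ^ i ∧ Odd (orderOf x) ∧ x ∉ Z ∧
        Subgroup.centralizer ({x} : Set G) = D := by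
    have key : ∀ {p i : ℕ} {y : G}, p.Prime → p ≠ 2 → p ≠ p1 → y ∈ D → orderOf y = p ^ i → y ∉ Z →
        Subgroup.centralizer ({y} : Set G) = D := by
      intro p i y hp hp2 hne hyD hyo hyZ
      rw [← hx1D] at hyD ⊢
      exact (hpair x1 y hx1odd hx1Z (hpodd hp hp2 hyo) hyZ (mem_cen.1 hyD)
        (by rw [hx1o, hyo]; exact hcoppow hp1 hp hne.symm)).symm
    by_cases e : p1 = q
    · obtain ⟨b', hb'D, ⟨j', hb'o⟩, hb'Z⟩ := hexist hs hs2 hys hysZ r hr hrZ
      have hne : s ≠ p1 := fun h' => hqs (e ▸ h'.symm)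
      exact ⟨s, j', b', hs, hne, hb'o, hpodd hs hs2 hb'o, hb'Z, key hs hs2 hne hb'D hb'o hb'Z⟩
    · exact ⟨q, jb, b, hq, Ne.symm e, hbo, hpodd hq hq2 hbo, hbZ,
        key hq hq2 (Ne.symm e) hbD hbo hbZ⟩
  have hpp : ∀ {p i : ℕ} {a : G}, p.Prime → a ∈ D → orderOf a = p ^ i → Odd (orderOf a) → a ∉ Z →
      Subgroup.centralizer ({a} : Set G) = D := by
    intro p i a hp haD hao hodd haZ
    by_cases e : p = p1
    · rw [← hx2D] at haD ⊢
      exact (hpair x2 a hx2odd hx2Z hodd haZ (mem_cen.1 haD)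
        (by rw [hx2o, hao]; exact hcoppow hp2 hp (e ▸ hp12))).symm
    · rw [← hx1D] at haD ⊢
      exact (hpair x1 a hx1odd hx1Z hodd haZ (mem_cen.1 haD)
        (by rw [hx1o, hao]; exact hcoppow hp1 hp (Ne.symm e))).symm
  have hcomm : ∀ a ∈ D, Odd (orderOf a) → ∀ d ∈ D, Commute a d := by
    intro a haD hodd d hd
    refine (show Commute d a from mem_cen.1 (mem_of_parts
      (Subgroup.centralizer ({d} : Set G)) fun e p i hp he => ?_)).symm
    by_cases hz : a ^ e ∈ Z
    · exact mem_cen.2 (Subgroup.mem_center_iff.1 hz d)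
    · exact mem_cen_comm.1 (hpp hp (D.pow_mem haD e) he (odd_orderOf_pow hodd e) hz ▸ hd)
  have hcenD : ∀ a ∈ D, Odd (orderOf a) → a ∉ Z → Subgroup.centralizer ({a} : Set G) = D :=
    fun a haD hodd haZ => (eq_of_le_cn (fun d hd => mem_cen.2 (hcomm a haD hodd d hd).eq)
      (hk.trans (h a hodd haZ).symm)).symm
  -- the inverting element normalises `D`
  have huD : ∀ d : G, d ∈ D → u * d * u⁻¹ ∈ D := by
    intro d hd
    have h1 : Commute r d := mem_cen.1 hd
    have h2 : Commute (u * r * u⁻¹) (u * d * u⁻¹) := by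
      show u * r * u⁻¹ * (u * d * u⁻¹) = u * d * u⁻¹ * (u * r * u⁻¹)
      calc _ = u * (r * d) * u⁻¹ := by group
        _ = u * (d * r) * u⁻¹ := by rw [h1.eq]
        _ = _ := by group
    rw [hur] at h2
    have h3 := h2.inv_left
    rw [inv_inv] at h3
    exact mem_cen.2 h3.eq
  have hu2 : u * u ∈ D := by
    refine mem_cen.2 ?_
    have : u * (u * r * u⁻¹) * u⁻¹ = r := by rw [hur, ← conj_inv, hur, inv_inv]
    calc r * (u * u) = (u * (u * r * u⁻¹) * u⁻¹) * (u * u) := by rw [this]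
      _ = u * u * r := by group
  have hunD : u ∉ D := fun hh => hrZ (by
    have e : r * u = u * r := mem_cen.1 hh
    rw [← e, mul_inv_cancel_right] at hur
    have := LAEven54.Inverted.eq_one_of_eq_inv_of_odd (p := orderOf r) hur hr (k := 1)
      (by rw [pow_one, pow_orderOf_eq_one])
    rw [this]; exact Z.one_mem)
  have hinvA : ∀ a ∈ D, Odd (orderOf a) → a * (u * a * u⁻¹) ∈ Z := by
    intro a haD hodd
    by_contra hz
    have hc := hcomm a haD hodd _ (huD a haD)
    have hodd' : Odd (orderOf (a * (u * a * u⁻¹))) :=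
      odd_orderOf_mul hc hodd (by rw [orderOf_conj]; exact hodd)
    apply hunD
    rw [← hcenD _ (D.mul_mem haD (huD a haD)) hodd' hz]
    apply commute_of_conj
    have e : u * (u * a * u⁻¹) * u⁻¹ = a := by
      calc u * (u * a * u⁻¹) * u⁻¹ = (u * u) * a * (u * u)⁻¹ := by group
        _ = a := by rw [← (hcomm a haD hodd _ hu2).eq]; group
    calc u * (a * (u * a * u⁻¹)) * u⁻¹ = (u * a * u⁻¹) * (u * (u * a * u⁻¹) * u⁻¹) := by group
      _ = a * (u * a * u⁻¹) := by rw [e]; exact hc.eq.symm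
  -- the `s`-part of `D`
  obtain ⟨S, -, hSD, hSp, hScard⟩ := exists_full (p := s) (H := D) IsPGroup.of_bot bot_le
  have hSel : ∀ z ∈ S, ∃ j, orderOf z = s ^ j := fun z hz => by
    exact exists_orderOf_eq hSp hz
  have hSodd : ∀ z ∈ S, Odd (orderOf z) := fun z hz => by
    obtain ⟨j, hj⟩ := hSel z hz
    exact hpodd hs hs2 hj
  have hSall : ∀ z ∈ D, ∀ j, orderOf z = s ^ j → z ∈ S := fun z hz j hj =>
    mem_of_full hSp hSD hScard hz hj (Subgroup.centralizer_le_normalizer _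
      (Subgroup.mem_centralizer_iff.2 fun w hw =>
        ((hcomm z hz (hpodd hs hs2 hj) w (hSD hw)).symm).eq))
  obtain ⟨a0, ha0D, ⟨j0, ha0o⟩, ha0Z⟩ := hexist hs hs2 hys hysZ r hr hrZ
  have ha0S := hSall a0 ha0D j0 ha0o
  obtain ⟨K, hKcard, hSK⟩ := Sylow.exists_subgroup_card_pow_succ
    (n := (Nat.card D).factorization s) (p := s) (G := G) (H := S)
    (by rw [pow_succ, ← D.card_mul_index]
        exact mul_dvd_mul (Nat.ordProj_dvd _ _) hsn) hScard
  have hKp : IsPGroup s K := IsPGroup.of_card hKcard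
  obtain ⟨g, hgK, hgN, hgS⟩ : ∃ g ∈ K, g ∈ Subgroup.normalizer (S : Set G) ∧ g ∉ S := by
    haveI := hKp.isNilpotent
    have hlt : S.subgroupOf K < ⊤ := by
      refine lt_top_iff_ne_top.2 fun e => ?_
      have := Subgroup.card_dvd_of_le (Subgroup.subgroupOf_eq_top.1 e)
      rw [hKcard, hScard, Nat.pow_dvd_pow_iff_le_right hs.one_lt] at this
      omega
    obtain ⟨g, hg1, hg2⟩ := Set.exists_of_ssubset
      (Group.normalizerCondition_of_isNilpotent (G := K) _ hlt)
    refine ⟨(g : G), g.2, Subgroup.mem_normalizer_iff.2 fun z => ?_,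
      fun h' => hg2 (Subgroup.mem_subgroupOf.2 h')⟩
    constructor
    · intro hz
      have := (Subgroup.mem_normalizer_iff.1 hg1 ⟨z, hSK hz⟩).1 (Subgroup.mem_subgroupOf.2 hz)
      exact Subgroup.mem_subgroupOf.1 this
    · intro hz
      have hzK : z ∈ K := by
        have := K.mul_mem (K.mul_mem (K.inv_mem g.2) (hSK hz)) g.2
        simpa [mul_assoc] using this
      exact Subgroup.mem_subgroupOf.1
        ((Subgroup.mem_normalizer_iff.1 hg1 ⟨z, hzK⟩).2 (Subgroup.mem_subgroupOf.2 hz))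
  obtain ⟨jg, hgo⟩ := exists_orderOf_eq hKp hgK
  have hgnD : g ∉ D := fun hh => hgS (hSall g hh jg hgo)
  have hnormD : ∀ x : G, ∀ a ∈ S, a ∉ Z → x * a * x⁻¹ ∈ S → ∀ d ∈ D, x * d * x⁻¹ ∈ D := by
    intro x a ha haZ hxa d hd
    have haZ' : x * a * x⁻¹ ∉ Z := fun hh => haZ (by
      have := (inferInstance : Z.Normal).conj_mem _ hh x⁻¹
      simpa [mul_assoc] using this)
    rw [← hcenD _ (hSD hxa) (by rw [orderOf_conj]; exact hSodd a ha) haZ', mem_cen_conj]
    rw [← hcenD a (hSD ha) (hSodd a ha) haZ] at hd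
    simpa [mul_assoc] using hd
  have hgD : ∀ d ∈ D, g * d * g⁻¹ ∈ D :=
    hnormD g a0 ha0S ha0Z ((Subgroup.mem_normalizer_iff.1 hgN a0).1 ha0S)
  -- a non-central element of `S` fixed by `g` modulo the centre
  obtain ⟨a, haS, haZ, hz⟩ : ∃ a ∈ S, a ∉ Z ∧ g * a * g⁻¹ * a⁻¹ ∈ Z := by
    set K' : Subgroup G := Subgroup.zpowers g ⊔ S with hK'
    have hK'p : IsPGroup s K' :=
      IsPGroup.to_sup_of_normal_right' (isPGroup_zpowers hgo) hSp (Subgroup.zpowers_le.2 hgN)
    set f := (QuotientGroup.mk' Z).comp K'.subtype with hf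
    have hrp : IsPGroup s f.range := hK'p.of_surjective f.rangeRestrict f.rangeRestrict_surjective
    have hK'N : K' ≤ Subgroup.normalizer (S : Set G) :=
      sup_le (Subgroup.zpowers_le.2 hgN) Subgroup.le_normalizer
    haveI : (S.subgroupOf K').Normal := ⟨fun n hn x => Subgroup.mem_subgroupOf.2
      ((Subgroup.mem_normalizer_iff.1 (hK'N x.2) _).1 (Subgroup.mem_subgroupOf.1 hn))⟩
    haveI : ((S.subgroupOf K').map f.rangeRestrict).Normal :=
      Subgroup.Normal.map inferInstance _ f.rangeRestrict_surjective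
    have hne : (S.subgroupOf K').map f.rangeRestrict ≠ ⊥ := by
      rw [Ne, Subgroup.map_eq_bot_iff, MonoidHom.ker_rangeRestrict]
      intro hle
      refine ha0Z ((QuotientGroup.eq_one_iff a0).1 ?_)
      exact hle (x := ⟨a0, Subgroup.mem_sup_right ha0S⟩) (Subgroup.mem_subgroupOf.2 ha0S)
    obtain ⟨w, ⟨⟨a, haK⟩, ha, rfl⟩, hw1⟩ := Subgroup.bot_or_exists_ne_one
      ((S.subgroupOf K').map f.rangeRestrict ⊓ Subgroup.center f.range) |>.resolve_left
        (PGroups.normal_inf_center_ne_bot hrp _ hne) |> fun ⟨w, hw, hw1⟩ =>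
          (⟨w, hw.1, And.intro hw1 hw.2⟩ :
            ∃ w, w ∈ (S.subgroupOf K').map f.rangeRestrict ∧ (w ≠ 1 ∧ w ∈ Subgroup.center f.range))
    refine ⟨a, Subgroup.mem_subgroupOf.1 ha, fun hh => hw1.1 (Subtype.ext
      ((QuotientGroup.eq_one_iff a).2 hh)), ?_⟩
    have hgc := congrArg Subtype.val (Subgroup.mem_center_iff.1 hw1.2
      (f.rangeRestrict ⟨g, Subgroup.mem_sup_left (Subgroup.mem_zpowers g)⟩))
    rw [← QuotientGroup.eq_one_iff]
    simp only [Subgroup.coe_mul, MonoidHom.coe_rangeRestrict, hf, MonoidHom.comp_apply,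
      Subgroup.coe_subtype, QuotientGroup.mk'_apply] at hgc
    rw [QuotientGroup.mk_mul, QuotientGroup.mk_mul, QuotientGroup.mk_mul, QuotientGroup.mk_inv,
      QuotientGroup.mk_inv, hgc, mul_inv_cancel_right, mul_inv_cancel]
  set z := g * a * g⁻¹ * a⁻¹ with hzd
  have hzc : ∀ x : G, x * z * x⁻¹ = z := fun x => by
    rw [Subgroup.mem_center_iff.1 hz x, mul_inv_cancel_right]
  have hzi : ∀ x : G, x * z⁻¹ = z⁻¹ * x := fun x => Subgroup.mem_center_iff.1 (Z.inv_mem hz) x
  have hga : g * a * g⁻¹ = z * a := by rw [hzd]; group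
  have hga' : g⁻¹ * a * g = z⁻¹ * a := by
    calc g⁻¹ * a * g = g⁻¹ * (z⁻¹ * (g * a * g⁻¹)) * g := by rw [hga]; group
      _ = z⁻¹ * (g⁻¹ * (g * a * g⁻¹) * g) := by
        rw [← mul_assoc g⁻¹ z⁻¹, hzi g⁻¹]; group
      _ = z⁻¹ * a := by group
  set g' := u * g * u⁻¹ with hg'
  set w := a * (u * a * u⁻¹) with hw
  have hwZ : w ∈ Z := hinvA a (hSD haS) (hSodd a haS)
  have hua : u * a * u⁻¹ = a⁻¹ * w := by rw [hw, inv_mul_cancel_left]
  have hg'a : g' * a * g'⁻¹ = z⁻¹ * a := by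
    have h1 : g' * (u * a * u⁻¹) * g'⁻¹ = z * (u * a * u⁻¹) := by
      calc g' * (u * a * u⁻¹) * g'⁻¹ = u * (g * a * g⁻¹) * u⁻¹ := by rw [hg']; group
        _ = u * z * u⁻¹ * (u * a * u⁻¹) := by rw [hga]; group
        _ = _ := by rw [hzc u]
    rw [hua] at h1
    have hwc : g' * w * g'⁻¹ = w := by
      rw [Subgroup.mem_center_iff.1 hwZ g', mul_inv_cancel_right]
    have h2 : (g' * a * g'⁻¹)⁻¹ * w = z * a⁻¹ * w := by
      calc (g' * a * g'⁻¹)⁻¹ * w = (g' * a * g'⁻¹)⁻¹ * (g' * w * g'⁻¹) := by rw [hwc]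
        _ = g' * (a⁻¹ * w) * g'⁻¹ := by group
        _ = z * a⁻¹ * w := by rw [h1, ← mul_assoc]
    have h3 := mul_right_cancel h2
    rw [← inv_inj, h3, mul_inv_rev, inv_inv]
    exact (Subgroup.mem_center_iff.1 hz a⁻¹).symm
  set hh := g⁻¹ * g' with hhd
  have hha : hh * a * hh⁻¹ = z⁻¹ * z⁻¹ * a := by
    calc hh * a * hh⁻¹ = g⁻¹ * (g' * a * g'⁻¹) * g := by rw [hhd]; group
      _ = (g⁻¹ * z⁻¹) * a * g := by rw [hg'a]; group
      _ = z⁻¹ * (g⁻¹ * a * g) := by rw [hzi g⁻¹]; group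
      _ = _ := by rw [hga', ← mul_assoc]
  -- a prime other than `s`
  have hq' : ∃ y ∈ D, (∃ j, orderOf y = q ^ j) ∧ y ∉ Z := ⟨b, hbD, ⟨jb, hbo⟩, hbZ⟩
  have hbodd : Odd (orderOf b) := hpodd hq hq2 hbo
  have hhb : hh * b * hh⁻¹ * b⁻¹ ∈ Z := by
    -- modulo the centre `u` inverts and `g` commutes with inversion
    have key : ∀ x y : G, x * y⁻¹ ∈ Z → ((x : G) : G ⧸ Z) = (y : G ⧸ Z) := fun x y hxy => by
      have := (QuotientGroup.eq_one_iff _).2 hxy
      rwa [QuotientGroup.mk_mul, QuotientGroup.mk_inv, mul_inv_eq_one] at this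
    have hinv' : ∀ d ∈ D, Odd (orderOf d) →
        ((u : G ⧸ Z) * (d : G ⧸ Z) * (u : G ⧸ Z)⁻¹) = (d : G ⧸ Z)⁻¹ := fun d hd hodd => by
      have := (QuotientGroup.eq_one_iff _).2 (hinvA d hd hodd)
      simp only [QuotientGroup.mk_mul, QuotientGroup.mk_inv] at this
      exact eq_inv_of_mul_eq_one_right this
    have h1 := hinv' b hbD hbodd
    have h2 := hinv' (g * b * g⁻¹) (hgD b hbD) (by rw [orderOf_conj]; exact hbodd)
    rw [← QuotientGroup.eq_one_iff]
    simp only [hhd, hg', QuotientGroup.mk_mul, QuotientGroup.mk_inv, mul_inv_rev, inv_inv] at h2 ⊢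
    set U := (u : G ⧸ Z)
    set B := (b : G ⧸ Z)
    set Gg := (g : G ⧸ Z)
    have h1' : U⁻¹ * B * U = B⁻¹ := by
      calc U⁻¹ * B * U = U⁻¹ * (U * B * U⁻¹)⁻¹ * U := by rw [h1]; group
        _ = B⁻¹ := by group
    calc Gg⁻¹ * (U * Gg * U⁻¹) * B * (U * (Gg⁻¹ * U⁻¹) * Gg) * B⁻¹
        = Gg⁻¹ * (U * (Gg * (U⁻¹ * B * U) * Gg⁻¹) * U⁻¹) * Gg * B⁻¹ := by group
      _ = Gg⁻¹ * (U * (Gg * B * Gg⁻¹) * U⁻¹)⁻¹ * Gg * B⁻¹ := by rw [h1']; group
      _ = 1 := by rw [h2]; group
  set ζ := hh * b * hh⁻¹ * b⁻¹ with hζd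
  have hb' : hh * b * hh⁻¹ = ζ * b := by rw [hζd]; group
  set N := orderOf b with hN
  have hζN : ζ ^ N = 1 := by
    have hc : Commute ζ b := (Subgroup.mem_center_iff.1 hhb b).symm
    have := conj_pow (a := hh) (b := b) (i := N)
    rw [hb', hc.mul_pow, hN, pow_orderOf_eq_one, mul_one, mul_one, mul_inv_cancel] at this
    exact this
  have hiter : ∀ c e : G, e ∈ Z → hh * c * hh⁻¹ = e * c → ∀ m : ℕ,
      hh ^ m * c * (hh ^ m)⁻¹ = e ^ m * c := by
    intro c e he hc m
    induction m with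
    | zero => simp
    | succ m ih =>
      have hem := Subgroup.mem_center_iff.1 (Z.pow_mem he m) hh
      calc hh ^ (m + 1) * c * (hh ^ (m + 1))⁻¹ = hh * (hh ^ m * c * (hh ^ m)⁻¹) * hh⁻¹ := by
            rw [pow_succ' hh m]; group
        _ = hh * e ^ m * c * hh⁻¹ := by rw [ih]; simp only [mul_assoc]
        _ = e ^ m * (hh * c * hh⁻¹) := by rw [hem]; group
        _ = e ^ (m + 1) * c := by rw [hc, pow_succ, mul_assoc]
  have hhN : hh ^ N ∈ D := by
    rw [← hcenD b hbD hbodd hbZ]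
    exact commute_of_conj (by rw [hiter b ζ hhb hb', hζN, one_mul])
  have hz2 : (z⁻¹ * z⁻¹) ^ N = 1 := by
    have e := hiter a _ (Z.mul_mem (Z.inv_mem hz) (Z.inv_mem hz)) hha N
    rw [← (hcomm a (hSD haS) (hSodd a haS) _ hhN).eq, mul_inv_cancel_right] at e
    exact mul_eq_right.1 e.symm
  obtain ⟨ja, hja⟩ := hSel a haS
  have hzs : z ^ (s ^ ja) = 1 := by
    have hc : Commute z a := (Subgroup.mem_center_iff.1 hz a).symm
    have := conj_pow (a := g) (b := a) (i := s ^ ja)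
    rw [hga, hc.mul_pow, ← hja, pow_orderOf_eq_one, mul_one, mul_one, mul_inv_cancel, hja] at this
    exact this
  have hz1 : z = 1 := by
    rw [← orderOf_eq_one_iff]
    have e1 : orderOf z ∣ 2 * N := orderOf_dvd_of_pow_eq_one (by
      rw [pow_mul, sq, ← inv_inj, inv_one, ← inv_pow, mul_inv_rev]
      exact hz2)
    have e2 : orderOf z ∣ s ^ ja := orderOf_dvd_of_pow_eq_one hzs
    refine Nat.eq_one_of_dvd_coprimes ?_ e2 e1
    exact Nat.Coprime.mul_right (Nat.Coprime.pow_left _ ((Nat.coprime_primes hs Nat.prime_two).2 hs2))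
      (by show (s ^ ja).Coprime N; rw [hbo]; exact hcoppow hs hq (Ne.symm hqs))
  apply hgnD
  rw [← hcenD a (hSD haS) (hSodd a haS) haZ]
  exact commute_of_conj (by rw [hga, hz1, one_mul])

end Cfsg.Agent.Lib.RankFour54.Solv
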