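import Mathlib
import Cfsg.Agent.Lib.RankFour54.Cross
import Cfsg.Agent.Lib.RankFour54.Solv
import Cfsg.Agent.Lib.RankFour54.Struct
import Cfsg.Agent.Lib.Coprime.Generation

/-!
# Involution centralisers in simple groups with four centraliser orders

All involution centralisers are solvable, and one without a normal 2-complement forces an abelian
Sylow 2-subgroup of order at least eight.
-/

set_option autoImplicit false
set_option linter.style.haveILetI false
set_option linter.unusedSectionVars false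

namespace Cfsg.Agent.Lib.RankFour54.Local

open Cfsg.Agent.Lib.ClassSizes.Basic
open Cfsg.Agent.Lib.Inv59.RankThree
open Cfsg.Agent.Lib.RankFour54

universe u

variable {G : Type u} [Group G] [Finite G]

/-- Every proper value below an involution equals `c`. -/
def Low (G : Type u) [Group G] (c : ℕ) : Prop :=
  ∀ i : G, orderOf i = 2 → ∀ w : G, w ≠ 1 → cn w ∣ cn i → cn w ≠ cn i → cn w = c

theorem exists_invol_pow {u : G} {k : ℕ} (hu : orderOf u = 2 ^ k) (h2 : u * u ≠ 1) :
    ∃ m : ℕ, orderOf ((u * u) ^ m) = 2 := by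
  have hd : orderOf (u * u) ∣ 2 ^ k := by rw [← hu, ← sq]; exact orderOf_pow_dvd 2
  obtain ⟨j, -, hj⟩ := (Nat.dvd_prime_pow Nat.prime_two).1 hd
  have hj0 : j ≠ 0 := fun e => h2 (orderOf_eq_one_iff.1 (by rw [hj, e, pow_zero]))
  obtain ⟨m, hm, -⟩ := exists_pow_of_dvd Nat.prime_two (hj ▸ dvd_pow_self 2 hj0)
  exact ⟨m, hm⟩

theorem cen_le_sq (u : G) :
    Subgroup.centralizer ({u} : Set G) ≤ Subgroup.centralizer ({u * u} : Set G) := by
  rw [← sq]; exact cen_le_pow u 2

/-- A large 2-group in the centraliser of an element of order at least four. -/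
theorem cen_sq {c : ℕ} (hlow : Low G c) {u : G} {k : ℕ} (hu : orderOf u = 2 ^ k) (h2 : u * u ≠ 1)
    {P : Subgroup G} (hP : IsPGroup 2 P) (hPu : P ≤ Subgroup.centralizer ({u} : Set G))
    (hcard : 2 ^ c.factorization 2 < Nat.card P) :
    Subgroup.centralizer ({u} : Set G) = Subgroup.centralizer ({u * u} : Set G) := by
  obtain ⟨m, hm⟩ := exists_invol_pow hu h2
  have hle := cen_le_sq u
  have hle2 := cen_le_pow (u * u) m
  have hu1 : u ≠ 1 := fun e => h2 (by rw [e, one_mul])
  by_cases e : cn u = cn ((u * u) ^ m)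
  · exact le_antisymm hle (hle2.trans (eq_of_le_cn (hle.trans hle2) e).ge)
  · have hc := hlow _ hm u hu1 (cn_dvd_of_le (hle.trans hle2)) e
    have h := card_le_ordProj hP hPu
    rw [show Nat.card (Subgroup.centralizer ({u} : Set G)) = cn u from rfl, hc] at h
    omega

/-- A finite 2-group in which an element of order at least four commutes with whatever its
square commutes with is abelian. -/
theorem isMulCommutative_of_sq {P : Subgroup G} (hP : IsPGroup 2 P)
    (h : ∀ u ∈ P, u * u ≠ 1 → ∀ x ∈ P, Commute (u * u) x → Commute u x) :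
    IsMulCommutative P := by
  by_contra hab
  haveI := hP.isNilpotent
  set Z := Subgroup.center P with hZ
  have hZtop : Z ≠ ⊤ := fun e => hab ⟨⟨fun a b =>
    Subgroup.mem_center_iff.1 (e ▸ Subgroup.mem_top b : b ∈ Z) a⟩⟩
  haveI : Nontrivial (P ⧸ Z) := QuotientGroup.nontrivial_iff.2 hZtop
  have hPq : IsPGroup 2 (P ⧸ Z) := hP.to_quotient Z
  haveI := hPq.center_nontrivial
  obtain ⟨n, hn, hn'⟩ := (hPq.to_subgroup (Subgroup.center (P ⧸ Z))).nontrivial_iff_card.1
    inferInstance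
  obtain ⟨ω, hω⟩ := exists_prime_orderOf_dvd_card' (G := Subgroup.center (P ⧸ Z)) 2
    (hn' ▸ dvd_pow_self 2 hn.ne')
  rw [← Subgroup.orderOf_coe] at hω
  obtain ⟨w, hw⟩ := QuotientGroup.mk'_surjective Z (ω : P ⧸ Z)
  have hwZ : w ∉ Z := fun hh => by
    rw [← hw, QuotientGroup.mk'_apply, (QuotientGroup.eq_one_iff w).2 hh, orderOf_one] at hω
    omega
  have hw2 : w * w ∈ Z := by
    rw [← QuotientGroup.eq_one_iff, ← sq, QuotientGroup.mk_pow]
    rw [QuotientGroup.mk'_apply] at hw
    rw [hw, ← hω, pow_orderOf_eq_one]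
  have hwc : ∀ x : P, w * x * w⁻¹ * x⁻¹ ∈ Z := fun x => by
    rw [← QuotientGroup.eq_one_iff]
    simp only [QuotientGroup.mk_mul, QuotientGroup.mk_inv]
    rw [QuotientGroup.mk'_apply] at hw
    rw [hw, ← Subgroup.mem_center_iff.1 ω.2 (x : P ⧸ Z)]
    group
  have hcomm : ∀ a b : P, a * a ≠ 1 → Commute (a * a) b → Commute a b := fun a b ha hab' =>
    Subtype.ext (h a a.2 (fun e => ha (Subtype.ext e)) b b.2
      (congrArg Subtype.val hab'.eq)).eq
  have hw1 : w * w = 1 := by
    by_contra hne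
    exact hwZ (Subgroup.mem_center_iff.2 fun x =>
      (hcomm w x hne (Subgroup.mem_center_iff.1 hw2 x).symm).symm.eq)
  refine hwZ (Subgroup.mem_center_iff.2 fun x => ?_)
  set z := w * x * w⁻¹ * x⁻¹ with hz
  have hzc : ∀ y : P, y * z = z * y := Subgroup.mem_center_iff.1 (hwc x)
  have hwinv : w⁻¹ = w := inv_eq_of_mul_eq_one_right hw1
  have hwx : w * x = z * (x * w) := by rw [hz]; group
  have hz2 : z * z = 1 := by
    have e : x = z * z * x := by
      calc x = (w * w) * x := by rw [hw1, one_mul]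
        _ = w * (z * (x * w)) := by rw [mul_assoc, hwx]
        _ = z * (w * x) * w := by rw [← mul_assoc, hzc w]; group
        _ = z * z * x * (w * w) := by rw [hwx]; group
        _ = z * z * x := by rw [hw1, mul_one]
    exact mul_eq_right.1 e.symm
  by_contra hne
  have hxx : x * x = 1 := by
    by_contra hx2
    refine hne (hcomm x w hx2 ?_).eq
    show x * x * w = w * (x * x)
    calc x * x * w = (z * z) * (x * x * w) := by rw [hz2, one_mul]
      _ = z * ((z * x) * (x * w)) := by group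
      _ = z * (x * (z * (x * w))) := by rw [← hzc x]; group
      _ = z * (x * (w * x)) := by rw [← hwx]
      _ = (z * (x * w)) * x := by group
      _ = w * (x * x) := by rw [← hwx]; group
  have hsq : w * x * (w * x) = z := by
    calc w * x * (w * x) = z * (x * w) * (w * x) := by rw [← hwx]
      _ = z * (x * (w * w) * x) := by group
      _ = z := by rw [hw1, mul_one, hxx, mul_one]
  have hz1 : z ≠ 1 := fun e => hne (by rw [hwx, e, one_mul])
  have hc := hcomm (w * x) w (by rw [hsq]; exact hz1) (by rw [hsq]; exact (hzc w).symm)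
  refine hne ?_
  have e : w * x * w = w * (w * x) := hc.eq
  rw [mul_assoc] at e
  exact mul_left_cancel e

theorem cn_subtype (C : Subgroup G) (x : C) :
    cn x = Nat.card (C ⊓ Subgroup.centralizer ({(x : G)} : Set G) : Subgroup G) := by
  rw [cn, ← Subgroup.card_map_of_injective C.subtype_injective]
  congr 2
  ext y
  constructor
  · rintro ⟨z, hz, rfl⟩
    exact ⟨z.2, mem_cen.2 (congrArg Subtype.val (mem_cen.1 hz))⟩
  · rintro ⟨hy, hyx⟩
    exact ⟨⟨y, hy⟩, mem_cen.2 (Subtype.ext (mem_cen.1 hyx)), rfl⟩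

theorem mem_center_subtype {C : Subgroup G} {x : C} :
    x ∈ Subgroup.center C ↔ C ≤ Subgroup.centralizer ({(x : G)} : Set G) := by
  rw [Subgroup.mem_center_iff]
  exact ⟨fun h y hy => mem_cen.2 (congrArg Subtype.val (h ⟨y, hy⟩)).symm,
    fun h y => Subtype.ext (mem_cen.1 (h y.2)).symm⟩

/-- An element of odd order normalising and not centralising a 2-subgroup rules out a normal
2-complement. -/
theorem not_npc_of_action {C Q : Subgroup G} (hQ : IsPGroup 2 Q) (hQC : Q ≤ C) {g : G}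
    (hgC : g ∈ C) (hg : Odd (orderOf g)) (hgQ : g ∈ Subgroup.normalizer (Q : Set G)) {x : G}
    (hx : x ∈ Q) (hne : g * x ≠ x * g) : ¬ Cfsg.HasNormalPComplement 2 C := fun h => hne (by
  have := Struct.commute_of_npc h (Q := Q.subgroupOf C)
    (hQ.of_equiv (Subgroup.subgroupOfEquivOfLe hQC).symm) (g := ⟨g, hgC⟩)
    (by rwa [Subgroup.orderOf_mk]) (Subgroup.mem_normalizer_iff.2 fun z => by
      simp only [Subgroup.mem_subgroupOf]
      exact Subgroup.mem_normalizer_iff.1 hgQ z) (x := ⟨x, hQC hx⟩) (Subgroup.mem_subgroupOf.2 hx)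
  exact congrArg Subtype.val this)

section Involution

variable {t : G} (ht : orderOf t = 2)
include ht

/-- The product with an element of odd order. -/
theorem tmul {r : G} (hr : r ∈ Subgroup.centralizer ({t} : Set G)) (hodd : Odd (orderOf r)) :
    Subgroup.centralizer ({t * r} : Set G) =
      Subgroup.centralizer ({t} : Set G) ⊓ Subgroup.centralizer ({r} : Set G) ∧
    t * r ≠ 1 ∧ cn (t * r) ∣ cn t := by
  have hc : Commute t r := mem_cen.1 hr
  have hcop : (orderOf t).Coprime (orderOf r) := by rw [ht]; exact Nat.coprime_two_left.2 hodd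
  have hC := cen_mul_eq hc hcop
  refine ⟨hC, fun e => ?_, cn_dvd_of_le (hC.le.trans inf_le_left)⟩
  have := hc.orderOf_mul_eq_mul_orderOf_of_coprime hcop
  rw [e, orderOf_one, ht] at this
  omega

theorem tmul_ne {r : G} (hr : r ∈ Subgroup.centralizer ({t} : Set G)) (hodd : Odd (orderOf r))
    (hnc : ¬ Subgroup.centralizer ({t} : Set G) ≤ Subgroup.centralizer ({r} : Set G)) :
    cn (t * r) ≠ cn t := fun e => hnc (by
  obtain ⟨hC, -, -⟩ := tmul ht hr hodd
  rw [← eq_of_le_cn (hC.le.trans inf_le_left) e, hC]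
  exact inf_le_right)

theorem cn_tmul {c : ℕ} (hlow : Low G c) {r : G} (hr : r ∈ Subgroup.centralizer ({t} : Set G))
    (hodd : Odd (orderOf r))
    (hnc : ¬ Subgroup.centralizer ({t} : Set G) ≤ Subgroup.centralizer ({r} : Set G)) :
    cn (t * r) = c :=
  hlow t ht _ (tmul ht hr hodd).2.1 (tmul ht hr hodd).2.2 (tmul_ne ht hr hodd hnc)

/-- All involution centralisers are solvable. -/
theorem solvable_centralizer [IsSimpleGroup G] (hG : ¬ IsMulCommutative G)
    (h4 : (Cross.vals G).ncard = 4) : Group.IsSolvable (Subgroup.centralizer ({t} : Set G)) := by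
  classical
  by_cases h : ∃ r : Subgroup.centralizer ({t} : Set G), Odd (orderOf r) ∧ r ∉ Subgroup.center _
  · obtain ⟨r, hr, hrc⟩ := h
    have hval : ∀ x : Subgroup.centralizer ({t} : Set G), Odd (orderOf x) →
        x ∉ Subgroup.center _ → cn x = cn (t * (x : G)) ∧ t * (x : G) ≠ 1 ∧
          cn (t * (x : G)) ∣ cn t ∧ cn (t * (x : G)) ≠ cn t := by
      intro x hx hxc
      rw [← Subgroup.orderOf_coe] at hx
      obtain ⟨hC, h1, h2⟩ := tmul ht x.2 hx
      exact ⟨by rw [cn_subtype, ← hC]; rfl, h1, h2,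
        tmul_ne ht x.2 hx fun hle => hxc (mem_center_subtype.2 hle)⟩
    refine Solv.isSolvable_of_one_order (cn r) fun x hx hxc => ?_
    obtain ⟨e, h1, h2, h3⟩ := hval x hx hxc
    obtain ⟨e', h1', h2', h3'⟩ := hval r hr hrc
    rw [e, e']
    exact Cross.lower_unique hG h4 ht (Cross.mem_vals h1) (Cross.mem_vals h1') h2 h2' h3 h3'
  · push Not at h
    exact Solv.isSolvable_of_one_order 0 fun x hx hxc => absurd (h x hx) hxc

variable {c : ℕ} (hlow : Low G c)
include hlow

/-- An element of odd order outside the odd core, with a 2-subgroup `D` of full order in its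
centraliser, gives an elementary abelian 2-subgroup acted on without fixed points. -/
theorem exists_E [Group.IsSolvable (Subgroup.centralizer ({t} : Set G))]
    {r : Subgroup.centralizer ({t} : Set G)} (hr : Odd (orderOf r))
    (hrK : r ∉ Cfsg.pPrimeCore 2 (Subgroup.centralizer ({t} : Set G))) {D : Subgroup G}
    (hD : IsPGroup 2 D) (hDC : D ≤ Subgroup.centralizer ({t} : Set G))
    (hDr : D ≤ Subgroup.centralizer ({(r : G)} : Set G))
    (hDcard : Nat.card D = 2 ^ c.factorization 2) :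
    ∃ (E : Subgroup G) (g : G), g ∈ Subgroup.centralizer ({t} : Set G) ∧ Odd (orderOf g) ∧
      D ≤ Subgroup.centralizer ({g} : Set G) ∧ E ≤ Subgroup.centralizer ({t} : Set G) ∧
      g ∈ Subgroup.normalizer (E : Set G) ∧ (∀ x ∈ E, x * x = 1) ∧
      (∀ x ∈ E, g * x = x * g → x = 1) ∧ 4 ≤ Nat.card E ∧ (∀ x ∈ E, ∀ d ∈ D, Commute x d) ∧
      (∀ v ∈ D, v * v = 1) := by
  classical
  set C := Subgroup.centralizer ({t} : Set G) with hC
  obtain ⟨Q', g', hQ', hQ'D, hg'D, hg', hgQ', x', hx', hne'⟩ :=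
    Struct.exists_action hr hrK (D := D.subgroupOf C)
      (hD.of_equiv (Subgroup.subgroupOfEquivOfLe hDC).symm)
      fun y hy => mem_cen.2 (Subtype.ext (mem_cen.1 (hDr (Subgroup.mem_subgroupOf.1 hy))))
  set Q := Q'.map C.subtype with hQdef
  set g : G := (g' : G) with hgdef
  have hQ : IsPGroup 2 Q := hQ'.map _
  have hQC : Q ≤ C := Subgroup.map_subtype_le _
  have hgodd : Odd (orderOf g) := by rwa [hgdef, Subgroup.orderOf_coe]
  have hQD : ∀ x ∈ Q, ∀ d ∈ D, Commute x d := by
    rintro _ ⟨z, hz, rfl⟩ d hd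
    exact (congrArg Subtype.val
      (Subgroup.mem_centralizer_iff.1 (hQ'D hz) ⟨d, hDC hd⟩ (Subgroup.mem_subgroupOf.2 hd))).symm
  have hDg : D ≤ Subgroup.centralizer ({g} : Set G) := fun d hd => mem_cen.2
    (congrArg Subtype.val
      (Subgroup.mem_centralizer_iff.1 hg'D ⟨d, hDC hd⟩ (Subgroup.mem_subgroupOf.2 hd))).symm
  have hgN : ∀ x ∈ Q, g * x * g⁻¹ ∈ Q := by
    rintro _ ⟨z, hz, rfl⟩
    exact ⟨g' * z * g'⁻¹, (Subgroup.mem_normalizer_iff.1 hgQ' z).1 hz, rfl⟩
  -- elements of order at least four outside `D`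
  have hbig : ∀ u ∈ C, (∃ k, orderOf u = 2 ^ k) → u * u ≠ 1 → u ∉ D → (∀ d ∈ D, Commute u d) →
      Subgroup.centralizer ({u} : Set G) = Subgroup.centralizer ({u * u} : Set G) := by
    intro u _ ⟨k, hk⟩ hu2 huD hud
    have hNu : u ∈ Subgroup.normalizer (D : Set G) :=
      Subgroup.centralizer_le_normalizer _ (Subgroup.mem_centralizer_iff.2 fun d hd => (hud d hd).symm.eq)
    have hP : IsPGroup 2 (Subgroup.zpowers u ⊔ D : Subgroup G) :=
      IsPGroup.to_sup_of_normal_right' (isPGroup_zpowers hk) hD (Subgroup.zpowers_le.2 hNu)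
    refine cen_sq hlow hk hu2 hP (sup_le (Subgroup.zpowers_le.2 (mem_self u))
      fun d hd => mem_cen.2 (hud d hd).eq) ?_
    rw [← hDcard]
    refine lt_of_le_of_ne (Subgroup.card_le_of_le le_sup_right) fun e => huD ?_
    rw [Subgroup.eq_of_le_of_card_ge (le_sup_right : D ≤ Subgroup.zpowers u ⊔ D) e.ge]
    exact Subgroup.mem_sup_left (Subgroup.mem_zpowers u)
  have hQab : IsMulCommutative Q := isMulCommutative_of_sq hQ fun u hu hu2 y hy hc => by
    by_cases huD : u ∈ D
    · exact (hQD y hy u huD).symm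
    · have e := hbig u (hQC hu) (exists_orderOf_eq hQ hu) hu2 huD (hQD u hu)
      exact mem_cen.1 (e.ge (mem_cen.2 hc.eq))
  have hQcomm : ∀ a ∈ Q, ∀ b ∈ Q, a * b = b * a := fun a ha b hb =>
    congrArg Subtype.val (hQab.is_comm.comm ⟨a, ha⟩ ⟨b, hb⟩)
  -- an element of square one moved by `g`
  obtain ⟨x0, hx0, hx02, hx0g⟩ : ∃ x ∈ Q, x * x = 1 ∧ g * x ≠ x * g := by
    by_contra! hno
    have hall : ∀ n, ∀ u ∈ Q, orderOf u = n → g * u = u * g := by
      intro n
      induction n using Nat.strong_induction_on with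
      | _ n ih =>
        intro u hu hun
        by_cases hu2 : u * u = 1
        · exact hno u hu hu2
        by_cases huD : u ∈ D
        · exact mem_cen.1 (hDg huD)
        have e := hbig u (hQC hu) (exists_orderOf_eq hQ hu) hu2 huD (hQD u hu)
        obtain ⟨k, hk⟩ := exists_orderOf_eq hQ hu
        have hk0 : k ≠ 0 := fun e0 => hu2 (by
          rw [orderOf_eq_one_iff.1 (hk.trans (by rw [e0, pow_zero])), one_mul])
        have hlt : orderOf (u * u) < n := by
          rw [← sq, orderOf_pow_of_dvd two_ne_zero (hk ▸ dvd_pow_self 2 hk0), ← hun]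
          exact Nat.div_lt_self (orderOf_pos u) one_lt_two
        exact (mem_cen.1 (e.ge (mem_cen.2 (ih _ hlt _ (Q.mul_mem hu hu) rfl).symm))).symm
    exact hne' (Subtype.ext (hall _ _ ⟨x', hx', rfl⟩ rfl))
  -- the commutator part of the elements of square one
  set E0 : Subgroup G :=
    { carrier := {y | y ∈ Q ∧ y * y = 1}
      mul_mem' := fun {a b} ha hb => ⟨Q.mul_mem ha.1 hb.1, by
        calc a * b * (a * b) = a * (b * a) * b := by group
          _ = (a * a) * (b * b) := by rw [hQcomm b hb.1 a ha.1]; group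
          _ = 1 := by rw [ha.2, hb.2, one_mul]⟩
      one_mem' := ⟨Q.one_mem, one_mul 1⟩
      inv_mem' := fun {a} ha => ⟨Q.inv_mem ha.1, by rw [← mul_inv_rev, ha.2, inv_one]⟩ } with hE0
  have hE0g : ∀ y ∈ E0, g * y * g⁻¹ ∈ E0 := fun y hy => ⟨hgN y hy.1, by
    calc g * y * g⁻¹ * (g * y * g⁻¹) = g * (y * y) * g⁻¹ := by group
      _ = 1 := by rw [hy.2]; group⟩
  have hE0c : ∀ a ∈ E0, ∀ b ∈ E0, a * b = b * a := fun a ha b hb => hQcomm a ha.1 b hb.1
  set φ : E0 →* G :=
    { toFun := fun y => (y : G) * (g * y * g⁻¹)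
      map_one' := by simp
      map_mul' := fun a b => by
        have e := hE0c b b.2 _ (hE0g a a.2)
        push_cast
        calc (a : G) * b * (g * (a * b) * g⁻¹) = a * (b * (g * a * g⁻¹)) * (g * b * g⁻¹) := by group
          _ = a * ((g * a * g⁻¹) * b) * (g * b * g⁻¹) := by rw [e]
          _ = _ := by group } with hφ
  have hEmem : ∀ y ∈ φ.range, y ∈ E0 := by
    rintro _ ⟨z, rfl⟩
    exact E0.mul_mem z.2 (hE0g z z.2)
  have hφg : ∀ z : E0, g * φ z * g⁻¹ = φ ⟨g * z * g⁻¹, hE0g z z.2⟩ := fun z => by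
    show g * ((z : G) * (g * z * g⁻¹)) * g⁻¹ = g * z * g⁻¹ * (g * (g * z * g⁻¹) * g⁻¹)
    group
  have hfix : ∀ x ∈ φ.range, g * x = x * g → x = 1 := by
    rintro _ ⟨z, rfl⟩ hgx
    set x := φ z with hx
    have hzx : g * (z : G) * g⁻¹ = x * z := by
      show g * (z : G) * g⁻¹ = (z : G) * (g * z * g⁻¹) * z
      rw [hE0c _ z.2 _ (hE0g z z.2), mul_assoc (g * (z : G) * g⁻¹) (z : G) (z : G), z.2.2, mul_one]
    have hxc : g * x * g⁻¹ = x := by rw [hgx, mul_inv_cancel_right]
    have hit : ∀ m : ℕ, g ^ m * z * (g ^ m)⁻¹ = x ^ m * z := by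
      intro m
      induction m with
      | zero => simp
      | succ m ih =>
        calc g ^ (m + 1) * z * (g ^ (m + 1))⁻¹ = g * (g ^ m * z * (g ^ m)⁻¹) * g⁻¹ := by
              rw [pow_succ' g m]; group
          _ = (g * x * g⁻¹) ^ m * (g * z * g⁻¹) := by rw [ih, conj_pow]; group
          _ = x ^ (m + 1) * z := by rw [hxc, hzx, pow_succ, mul_assoc]
    have hm := hit (orderOf g)
    rw [pow_orderOf_eq_one, one_mul, inv_one, mul_one] at hm
    have hxm : x ^ orderOf g = 1 := mul_eq_right.1 hm.symm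
    have hx2 : x ^ 2 = 1 := by rw [sq]; exact (hEmem x ⟨z, rfl⟩).2
    exact orderOf_eq_one_iff.1 (Nat.eq_one_of_dvd_coprimes (Nat.coprime_two_left.2 hgodd)
      (orderOf_dvd_of_pow_eq_one hx2) (orderOf_dvd_of_pow_eq_one hxm))
  set x := φ ⟨x0, hx0, hx02⟩ with hx
  have hxE : x ∈ φ.range := ⟨_, rfl⟩
  have hx1 : x ≠ 1 := fun e => hx0g (by
    have e' : x0 * (g * x0 * g⁻¹) = 1 := e
    exact mul_inv_eq_iff_eq_mul.1
      ((inv_eq_of_mul_eq_one_right e').symm.trans (inv_eq_of_mul_eq_one_right hx02)))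
  have hgxE : g * x * g⁻¹ ∈ φ.range := ⟨_, (hφg _).symm⟩
  have hgx : g * x * g⁻¹ ≠ x := fun e => hx1 (hfix x hxE (mul_inv_eq_iff_eq_mul.1 e))
  have hgx1 : g * x * g⁻¹ ≠ 1 := conj_ne_one hx1
  have hEp : IsPGroup 2 φ.range := hQ.to_le fun y hy => (hEmem y hy).1
  have h4 : 4 ≤ Nat.card φ.range := by
    have h3 : ({1, x, g * x * g⁻¹} : Set G).ncard = 3 := by
      rw [Set.ncard_insert_of_notMem (by simp [hx1.symm, hgx1.symm]), Set.ncard_pair hgx.symm]
    have h3' : 3 ≤ Nat.card φ.range := by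
      rw [← h3, ← SetLike.coe_sort_coe, Nat.card_coe_set_eq]
      refine Set.ncard_le_ncard ?_ (Set.toFinite _)
      rintro y (rfl | rfl | rfl)
      exacts [one_mem _, hxE, hgxE]
    obtain ⟨n, hn⟩ := IsPGroup.iff_card.1 hEp
    rw [hn] at h3' ⊢
    match n, h3' with
    | 0, h => omega
    | 1, h => omega
    | n + 2, _ => rw [pow_add]; exact Nat.le_mul_of_pos_left 4 (pow_pos two_pos n)
  have hED : ∀ y ∈ φ.range, ∀ d ∈ D, Commute y d := fun y hy d hd => hQD y (hEmem y hy).1 d hd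
  -- every element of `D` has order at most two
  have hDsq : ∀ u ∈ D, u * u ≠ 1 →
      Subgroup.centralizer ({u} : Set G) = Subgroup.centralizer ({u * u} : Set G) := by
    intro u hu hu2
    obtain ⟨k, hk⟩ := exists_orderOf_eq hD hu
    obtain ⟨m, hm⟩ := exists_invol_pow hk hu2
    have hle := cen_le_sq u
    have hle2 := cen_le_pow (u * u) m
    by_cases e : cn u = cn ((u * u) ^ m)
    · exact le_antisymm hle (hle2.trans (eq_of_le_cn (hle.trans hle2) e).ge)
    exfalso
    have hu1 : u ≠ 1 := fun e1 => hu2 (by rw [e1, one_mul])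
    have hc := hlow _ hm u hu1 (cn_dvd_of_le (hle.trans hle2)) e
    have hcug : Commute u g := (show Commute g u from mem_cen.1 (hDg hu)).symm
    have hcop : (orderOf u).Coprime (orderOf g) := by
      rw [hk]; exact (Nat.coprime_two_left.2 hgodd).pow_left k
    have hCug := cen_mul_eq hcug hcop
    have hne1 : u * g ≠ 1 := fun e1 => by
      have := hcug.orderOf_mul_eq_mul_orderOf_of_coprime hcop
      rw [e1, orderOf_one] at this
      exact hu1 (orderOf_eq_one_iff.1 (Nat.eq_one_of_mul_eq_one_right this.symm))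
    have hdu : cn (u * g) ∣ cn u := cn_dvd_of_le (hCug.le.trans inf_le_left)
    have hcu := cn_dvd_of_le (hle.trans hle2)
    have hcug' : cn (u * g) = c := hlow _ hm _ hne1 (hdu.trans hcu) fun e2 =>
      e (Nat.dvd_antisymm hcu (e2 ▸ hdu))
    have heq := eq_of_le_cn (hCug.le.trans inf_le_left) (hcug'.trans hc.symm)
    have hxu : x ∈ Subgroup.centralizer ({u} : Set G) := mem_cen.2 (hED x hxE u hu).symm.eq
    rw [← heq, hCug] at hxu
    exact hx1 (hfix x hxE (mem_cen.1 hxu.2))
  have hDab : IsMulCommutative D := isMulCommutative_of_sq hD fun u hu hu2 y _ hc =>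
    mem_cen.1 ((hDsq u hu hu2).ge (mem_cen.2 hc.eq))
  refine ⟨φ.range, g, g'.2, hgodd, hDg, fun y hy => hQC (hEmem y hy).1, ?_,
    fun y hy => (hEmem y hy).2, hfix, h4, hED, fun v hv => ?_⟩
  · rw [Subgroup.mem_normalizer_iff_map_conj_eq]
    refine Subgroup.eq_of_le_of_card_ge ?_
      (Subgroup.card_map_of_injective (MulAut.conj g).injective).ge
    rintro _ ⟨_, ⟨z, rfl⟩, rfl⟩
    exact ⟨_, (hφg z).symm⟩
  · by_contra hv2
    have hvx : Commute v x := (hED x hxE v hv).symm
    have hx2 : x * x = 1 := (hEmem x hxE).2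
    have e : v * x * (v * x) = v * v := by
      rw [hvx.symm.mul_mul_mul_comm, hx2, mul_one]
    have huD : v * x ∉ D := fun h => hx1 (hfix x hxE (mem_cen.1 (hDg
      (by simpa using D.mul_mem (D.inv_mem hv) h))))
    have huD' : ∀ d ∈ D, Commute (v * x) d := fun d hd =>
      Commute.mul_left (congrArg Subtype.val (hDab.is_comm.comm ⟨v, hv⟩ ⟨d, hd⟩)) (hED x hxE d hd)
    obtain ⟨k, hk⟩ := exists_orderOf_eq hD hv
    obtain ⟨j, hj⟩ : ∃ j, orderOf (v * x) = 2 ^ j := by
      have h := hvx.orderOf_mul_dvd_mul_orderOf.trans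
        (mul_dvd_mul (dvd_of_eq hk) (orderOf_dvd_of_pow_eq_one (by rw [sq]; exact hx2)))
      rw [← pow_succ] at h
      obtain ⟨j, -, hj⟩ := (Nat.dvd_prime_pow Nat.prime_two).1 h
      exact ⟨j, hj⟩
    have hC := hbig _ (C.mul_mem (hDC hv) (hQC (hEmem x hxE).1)) ⟨j, hj⟩ (e ▸ hv2) huD huD'
    rw [e] at hC
    have hgin : g ∈ Subgroup.centralizer ({v * x} : Set G) :=
      hC.ge (mem_cen_comm.1 (hDg (D.mul_mem hv hv)))
    have hgv : g * v = v * g := mem_cen.1 (hDg hv)
    have hgin' : v * x * g = g * (v * x) := mem_cen.1 hgin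
    refine hx1 (hfix x hxE (mul_left_cancel (a := v) ?_))
    calc v * (g * x) = (g * v) * x := by rw [← mul_assoc, hgv]
      _ = g * (v * x) := mul_assoc _ _ _
      _ = v * (x * g) := by rw [← hgin', mul_assoc]

set_option maxHeartbeats 1000000 in
/-- In an involution centraliser without normal 2-complement there is an elementary abelian group
`E × D` with `E` acted on without fixed points, and an element of order at least four has the
centraliser of its square. -/
theorem local_structure [Group.IsSolvable (Subgroup.centralizer ({t} : Set G))]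
    (hnn : ¬ Cfsg.HasNormalPComplement 2 (Subgroup.centralizer ({t} : Set G))) :
    ∃ (D E W : Subgroup G) (g : G), 2 ≤ 2 ^ c.factorization 2 ∧
      Nat.card D = 2 ^ c.factorization 2 ∧ D ≤ W ∧ (∀ d ∈ D, d * d = 1) ∧
      D ≤ Subgroup.centralizer ({g} : Set G) ∧ Odd (orderOf g) ∧
      g ∈ Subgroup.normalizer (E : Set G) ∧ (∀ x ∈ E, x * x = 1) ∧
      (∀ x ∈ E, g * x = x * g → x = 1) ∧ 4 ≤ Nat.card E ∧
      (∀ x ∈ E, ∀ d ∈ D, Commute x d) ∧
      W ≤ Subgroup.centralizer ({t} : Set G) ∧ (∀ w ∈ W, w * w = 1) ∧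
      4 * 2 ^ c.factorization 2 ≤ Nat.card W ∧
      ∀ u ∈ Subgroup.centralizer ({t} : Set G), ∀ k : ℕ, orderOf u = 2 ^ k → u * u ≠ 1 →
        Subgroup.centralizer ({u} : Set G) = Subgroup.centralizer ({u * u} : Set G) := by
  classical
  set C := Subgroup.centralizer ({t} : Set G) with hC
  set K := Cfsg.pPrimeCore 2 C with hK
  set c2 := 2 ^ c.factorization 2 with hc2
  have hnc : ∀ r : C, Odd (orderOf r) → r ∉ K → ¬ C ≤ Subgroup.centralizer ({(r : G)} : Set G) := by
    intro r hr hrK hle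
    apply hrK
    have hz := mem_center_subtype.2 hle
    haveI : (Subgroup.zpowers r).Normal := ⟨fun n hn y => by
      obtain ⟨i, rfl⟩ := Subgroup.mem_zpowers_iff.1 hn
      rw [Subgroup.mem_center_iff.1 ((Subgroup.center C).zpow_mem hz i) y, mul_inv_cancel_right]
      exact Subgroup.zpow_mem _ (Subgroup.mem_zpowers r) i⟩
    exact Cores.le_pPrimeCore (by rw [Nat.card_zpowers]; exact Nat.coprime_two_right.2 hr)
      (Subgroup.mem_zpowers r)
  -- a 2-subgroup of full order in the centraliser of a non-central element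
  have hfull : ∀ (r : G), r ∈ C → Odd (orderOf r) →
      ¬ C ≤ Subgroup.centralizer ({r} : Set G) → ∀ P : Subgroup G, IsPGroup 2 P → P ≤ C →
      P ≤ Subgroup.centralizer ({r} : Set G) → Nat.card P ≤ c2 ∧ ∃ D : Subgroup G, P ≤ D ∧
        IsPGroup 2 D ∧ D ≤ C ∧ D ≤ Subgroup.centralizer ({r} : Set G) ∧ Nat.card D = c2 := by
    intro r hr hodd hn P hP hPC hPr
    obtain ⟨hCr, -, -⟩ := tmul ht hr hodd
    have hcr : cn (t * r) = c := cn_tmul ht hlow hr hodd hn
    have hPtr : P ≤ Subgroup.centralizer ({t * r} : Set G) := hCr ▸ le_inf hPC hPr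
    obtain ⟨D, hPD, hDtr, hD, hDc⟩ := exists_full hP hPtr
    rw [show Nat.card (Subgroup.centralizer ({t * r} : Set G)) = cn (t * r) from rfl, hcr] at hDc
    rw [hCr] at hDtr
    exact ⟨(Subgroup.card_le_of_le hPD).trans hDc.le, D, hPD, hD,
      hDtr.trans inf_le_left, hDtr.trans inf_le_right, hDc⟩
  obtain ⟨r, hr, hrK⟩ := Struct.exists_odd_outside hnn
  have hr' : Odd (orderOf (r : G)) := by rwa [Subgroup.orderOf_coe]
  have htC : t ∈ C := mem_self t
  obtain ⟨hc2t, D, htD, hD, hDC, hDr, hDcard⟩ := hfull r r.2 hr' (hnc r hr hrK) (Subgroup.zpowers t)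
    (isPGroup_zpowers (k := 1) (by rw [ht, pow_one])) (Subgroup.zpowers_le.2 htC)
    (Subgroup.zpowers_le.2 (mem_cen_comm.1 r.2))
  rw [Nat.card_zpowers, ht] at hc2t
  obtain ⟨E, g, hgC, hg, hDg, hEC, hgE, hE2, hEfix, hE4, hED, hD2⟩ :=
    exists_E ht hlow hr hrK hD hDC hDr hDcard
  have hEc : ∀ a ∈ E, ∀ b ∈ E, a * b = b * a := fun a ha b hb => by
    have h := hE2 _ (E.mul_mem ha hb)
    calc a * b = (a * b)⁻¹ := (inv_eq_of_mul_eq_one_right h).symm
      _ = b * a := by rw [mul_inv_rev, inv_eq_of_mul_eq_one_right (hE2 a ha),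
        inv_eq_of_mul_eq_one_right (hE2 b hb)]
  have hDc : ∀ a ∈ D, ∀ b ∈ D, a * b = b * a := fun a ha b hb => by
    have h := hD2 _ (D.mul_mem ha hb)
    calc a * b = (a * b)⁻¹ := (inv_eq_of_mul_eq_one_right h).symm
      _ = b * a := by rw [mul_inv_rev, inv_eq_of_mul_eq_one_right (hD2 a ha),
        inv_eq_of_mul_eq_one_right (hD2 b hb)]
  -- the elementary abelian group `W = E × D`
  set W : Subgroup G :=
    { carrier := {w | ∃ e ∈ E, ∃ d ∈ D, e * d = w}
      mul_mem' := by
        rintro _ _ ⟨e, he, d, hd, rfl⟩ ⟨e', he', d', hd', rfl⟩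
        refine ⟨e * e', E.mul_mem he he', d * d', D.mul_mem hd hd', ?_⟩
        calc e * e' * (d * d') = e * (e' * d) * d' := by group
          _ = e * (d * e') * d' := by rw [(hED e' he' d hd).eq]
          _ = e * d * (e' * d') := by group
      one_mem' := ⟨1, E.one_mem, 1, D.one_mem, one_mul 1⟩
      inv_mem' := by
        rintro _ ⟨e, he, d, hd, rfl⟩
        exact ⟨e⁻¹, E.inv_mem he, d⁻¹, D.inv_mem hd, by
          rw [mul_inv_rev]; exact ((hED e he d hd).inv_inv).eq⟩ } with hW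
  have hW2 : ∀ w ∈ W, w * w = 1 := by
    rintro _ ⟨e, he, d, hd, rfl⟩
    rw [(hED e he d hd).symm.mul_mul_mul_comm, hE2 e he, hD2 d hd, one_mul]
  have hWcard : Nat.card W = Nat.card E * Nat.card D := by
    rw [← Nat.card_prod]
    refine (Nat.card_eq_of_bijective (fun p : E × D =>
      (⟨(p.1 : G) * p.2, p.1, p.1.2, p.2, p.2.2, rfl⟩ : W)) ⟨?_, ?_⟩).symm
    · rintro ⟨e, d⟩ ⟨e', d'⟩ h
      have h' : (e : G) * d = e' * d' := congrArg Subtype.val h
      have h1 : (e' : G)⁻¹ * e = d' * (d : G)⁻¹ := by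
        rw [eq_mul_inv_iff_mul_eq, mul_assoc, h', inv_mul_cancel_left]
      have h2 := hEfix _ (E.mul_mem (E.inv_mem e'.2) e.2)
        (mem_cen.1 (hDg (h1 ▸ D.mul_mem d'.2 (D.inv_mem d.2))))
      have he : e = e' := Subtype.ext (inv_mul_eq_one.1 h2).symm
      subst he
      exact Prod.ext rfl (Subtype.ext (mul_left_cancel h'))
    · rintro ⟨_, e, he, d, hd, rfl⟩
      exact ⟨(⟨e, he⟩, ⟨d, hd⟩), rfl⟩
  have hWp : IsPGroup 2 W := fun w => ⟨1, by
    rw [pow_one, sq]; exact Subtype.ext (hW2 w w.2)⟩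
  have hWC : W ≤ C := by
    rintro _ ⟨e, he, d, hd, rfl⟩
    exact C.mul_mem (hEC he) (hDC hd)
  have hWbig : 4 * c2 ≤ Nat.card W := by rw [hWcard, hDcard]; exact Nat.mul_le_mul_right _ hE4
  haveI hWab : IsMulCommutative W := ⟨⟨fun a b => Subtype.ext (by
    calc (a : G) * b = ((a : G) * b)⁻¹ := (inv_eq_of_mul_eq_one_right (hW2 _ (W.mul_mem a.2 b.2))).symm
      _ = b * a := by rw [mul_inv_rev, inv_eq_of_mul_eq_one_right (hW2 a a.2),
        inv_eq_of_mul_eq_one_right (hW2 b b.2)])⟩⟩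
  -- the odd core is central
  have hKcen : ∀ k : C, k ∈ K → C ≤ Subgroup.centralizer ({(k : G)} : Set G) := by
    set K' := K.map C.subtype with hK'
    have hWK : W ≤ Subgroup.normalizer (K' : Set G) := by
      intro w hw
      rw [Subgroup.mem_normalizer_iff]
      intro z
      constructor
      · rintro ⟨k, hk, rfl⟩
        exact ⟨⟨w, hWC hw⟩ * k * (⟨w, hWC hw⟩ : C)⁻¹,
          (inferInstance : K.Normal).conj_mem k hk _, rfl⟩
      · rintro ⟨k, hk, e⟩
        refine ⟨(⟨w, hWC hw⟩ : C)⁻¹ * k * ⟨w, hWC hw⟩, ?_, ?_⟩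
        · have := (inferInstance : K.Normal).conj_mem k hk (⟨w, hWC hw⟩ : C)⁻¹
          rwa [inv_inv] at this
        · simp only [Subgroup.coe_subtype, Subgroup.coe_mul, InvMemClass.coe_inv] at e ⊢
          rw [e]; group
    have hK'odd : Odd (Nat.card K') := by
      rw [hK', Subgroup.card_map_of_injective C.subtype_injective]
      exact Nat.coprime_two_right.1 (Cores.pPrimeCore_coprime 2)
    have hgen := Coprime.iSup_centralizer_cyclic_quotient_eq hWK (by
      obtain ⟨n, hn⟩ := IsPGroup.iff_card.1 hWp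
      rw [hn]; exact (Nat.coprime_two_left.2 hK'odd).pow_left n)
    intro k hk
    have hsub : K' ≤ (Subgroup.center C).map C.subtype := by
      rw [← hgen]
      refine iSup₂_le fun B hB => ?_
      obtain ⟨hBW, a, ha, hBa⟩ := hB
      rintro y ⟨⟨y', hy', rfl⟩, hyB⟩
      by_contra hy
      have hyc : ¬ C ≤ Subgroup.centralizer ({(y' : G)} : Set G) := fun hle =>
        hy ⟨y', mem_center_subtype.2 hle, rfl⟩
      have hyo : Odd (orderOf (y' : G)) := by
        rw [Subgroup.orderOf_coe]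
        have := orderOf_dvd_natCard (⟨y', hy'⟩ : K)
        rw [Subgroup.orderOf_mk] at this
        exact (Nat.coprime_two_right.1 (Cores.pPrimeCore_coprime 2)).of_dvd_nat this
      have hB2 := (hfull y' y'.2 hyo hyc B (hWp.to_le hBW) (hBW.trans hWC)
        fun b hb => mem_cen.2 (Subgroup.mem_centralizer_iff.1 hyB b hb).symm).1
      have hWB : Nat.card W ≤ Nat.card B * 2 := by
        haveI : (B.subgroupOf W).Normal := ⟨fun n hn y => by
          rw [hWab.is_comm.comm y n, mul_inv_cancel_right]; exact hn⟩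
        have htop : Subgroup.zpowers (⟨a, ha⟩ : W) ⊔ B.subgroupOf W = ⊤ := by
          apply Subgroup.map_injective W.subtype_injective
          rw [Subgroup.map_sup, MonoidHom.map_zpowers, Subgroup.subgroupOf_map_subtype,
            inf_eq_left.2 hBW, ← MonoidHom.range_eq_map, Subgroup.range_subtype, sup_comm]
          exact hBa
        have h := Nat.le_of_dvd (Nat.mul_pos Nat.card_pos Nat.card_pos)
          (Cores.card_sup_dvd_mul (Subgroup.zpowers (⟨a, ha⟩ : W)) (B.subgroupOf W))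
        rw [htop, Subgroup.card_top, Nat.card_zpowers, Subgroup.orderOf_mk,
          Nat.card_congr (Subgroup.subgroupOfEquivOfLe hBW).toEquiv] at h
        refine h.trans ?_
        rw [mul_comm (Nat.card B)]
        exact Nat.mul_le_mul_right _ (Nat.le_of_dvd two_pos
          (orderOf_dvd_of_pow_eq_one (by rw [sq]; exact hW2 a ha)))
      omega
    obtain ⟨z, hz, e⟩ := hsub ⟨k, hk, rfl⟩
    exact Subtype.ext e ▸ mem_center_subtype.1 hz
  -- elements of order at least four
  have hsq : ∀ u ∈ C, ∀ k : ℕ, orderOf u = 2 ^ k → u * u ≠ 1 →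
      Subgroup.centralizer ({u} : Set G) = Subgroup.centralizer ({u * u} : Set G) := by
    intro u hu k hk hu2
    obtain ⟨m, hm⟩ := exists_invol_pow hk hu2
    have hle := cen_le_sq u
    have hle2 := cen_le_pow (u * u) m
    by_cases e : cn u = cn ((u * u) ^ m)
    · exact le_antisymm hle (hle2.trans (eq_of_le_cn (hle.trans hle2) e).ge)
    exfalso
    have hu1 : u ≠ 1 := fun e1 => hu2 (by rw [e1, one_mul])
    have hcu := cn_dvd_of_le (hle.trans hle2)
    have hcn := hlow _ hm u hu1 hcu e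
    -- a prime power part of `g` which is not central
    have hgnc : ¬ C ≤ Subgroup.centralizer ({g} : Set G) := fun hle' => by
      haveI : Nontrivial E := by rw [← Finite.one_lt_card_iff_nontrivial]; omega
      obtain ⟨x, hx⟩ := exists_ne (1 : E)
      exact hx (Subtype.ext (hEfix x x.2 (mem_cen.1 (hle' (hEC x.2)))))
    obtain ⟨l, p, i, hp, hgo, hgl⟩ : ∃ (l p i : ℕ), p.Prime ∧ orderOf (g ^ l) = p ^ i ∧
        ¬ C ≤ Subgroup.centralizer ({g ^ l} : Set G) := by
      by_contra! hno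
      exact hgnc fun y hy => mem_cen_comm.1 (mem_of_parts (Subgroup.centralizer ({y} : Set G))
        fun l p i hp he => mem_cen_comm.1 (hno l p i hp he hy))
    haveI := Fact.mk hp
    set g1 := g ^ l with hg1
    have hg1o : Odd (orderOf g1) := odd_orderOf_pow hg l
    have hg1C : g1 ∈ C := C.pow_mem hgC l
    obtain ⟨hCg, -, -⟩ := tmul ht hg1C hg1o
    have hcg : cn (t * g1) = c := cn_tmul ht hlow hg1C hg1o hgl
    have hi0 : i ≠ 0 := fun e0 => hgl fun y hy => by
      rw [orderOf_eq_one_iff.1 (hgo.trans (by rw [e0, pow_zero]))]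
      exact mem_cen.2 (by simp)
    have hp2 : p ≠ 2 := fun ep => by
      subst ep
      exact Nat.not_even_iff_odd.2 hg1o (even_iff_two_dvd.2 (hgo ▸ dvd_pow_self 2 hi0))
    obtain ⟨P, -, hPu, hP, hPcard⟩ :=
      exists_full (p := p) (H := Subgroup.centralizer ({u} : Set G)) IsPGroup.of_bot bot_le
    have hcu' : Nat.card (Subgroup.centralizer ({u} : Set G)) = c := hcn
    rw [hcu'] at hPcard
    have hPC : ∀ y ∈ P, Odd (orderOf y) ∧ y ∈ C ∧
        Subgroup.centralizer ({u} : Set G) ≤ Subgroup.centralizer ({y} : Set G) := by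
      intro y hy
      obtain ⟨j, hj⟩ := exists_orderOf_eq hP hy
      have hyo : Odd (orderOf y) := hj ▸ (hp.odd_of_ne_two hp2).pow
      have hcuy : Commute u y := mem_cen.1 (hPu hy)
      have hcop : (orderOf u).Coprime (orderOf y) := by
        rw [hk]; exact (Nat.coprime_two_left.2 hyo).pow_left k
      have hCuy := cen_mul_eq hcuy hcop
      have hne1 : u * y ≠ 1 := fun e1 => by
        have := hcuy.orderOf_mul_eq_mul_orderOf_of_coprime hcop
        rw [e1, orderOf_one] at this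
        exact hu1 (orderOf_eq_one_iff.1 (Nat.eq_one_of_mul_eq_one_right this.symm))
      have hduy : cn (u * y) ∣ cn u := cn_dvd_of_le (hCuy.le.trans inf_le_left)
      have hcy : cn (u * y) = c := hlow _ hm _ hne1 (hduy.trans hcu) fun e2 =>
        e (Nat.dvd_antisymm hcu (e2 ▸ hduy))
      have hley : Subgroup.centralizer ({u} : Set G) ≤ Subgroup.centralizer ({y} : Set G) := by
        rw [← eq_of_le_cn (hCuy.le.trans inf_le_left) (hcy.trans hcn.symm), hCuy]
        exact inf_le_right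
      exact ⟨hyo, mem_cen_comm.1 (hley (mem_cen_comm.1 hu)), hley⟩
    by_cases hall : ∀ y ∈ P, C ≤ Subgroup.centralizer ({y} : Set G)
    · have hPtg : P ≤ Subgroup.centralizer ({t * g1} : Set G) := fun y hy => by
        rw [hCg]; exact ⟨(hPC y hy).2.1, mem_cen_comm.1 (hall y hy hg1C)⟩
      have hmem := mem_of_full hP hPtg (by
          rw [hPcard, show Nat.card (Subgroup.centralizer ({t * g1} : Set G)) = cn (t * g1) from rfl,
            hcg]) (y := g1) (by rw [hCg]; exact ⟨hg1C, mem_self g1⟩) hgo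
        (Subgroup.centralizer_le_normalizer _ (Subgroup.mem_centralizer_iff.2 fun y hy =>
          mem_cen.1 (hall y hy hg1C)))
      exact hgl (hall g1 hmem)
    · push Not at hall
      obtain ⟨y, hy, hyn⟩ := hall
      obtain ⟨hyo, hyC, hley⟩ := hPC y hy
      obtain ⟨-, D', huD', hD', hD'C, hD'y, hD'card⟩ := hfull y hyC hyo hyn (Subgroup.zpowers u)
        (isPGroup_zpowers hk) (Subgroup.zpowers_le.2 hu)
        (Subgroup.zpowers_le.2 (hley (mem_self u)))
      obtain ⟨-, -, -, -, -, -, -, -, -, -, -, hD'2⟩ := exists_E ht hlow (r := ⟨y, hyC⟩)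
        (by rwa [Subgroup.orderOf_mk]) (fun hyK => hyn (hKcen _ hyK)) hD' hD'C hD'y hD'card
      exact hu2 (hD'2 u (huD' (Subgroup.mem_zpowers u)))
  exact ⟨D, E, W, g, hc2t, hDcard, fun d hd => ⟨1, E.one_mem, d, hd, one_mul d⟩, hD2, hDg, hg,
    hgE, hE2, hEfix, hE4, hED, hWC, hW2, hWbig, hsq⟩

set_option maxHeartbeats 1000000 in
/-- An involution centraliser without normal 2-complement forces an abelian Sylow 2-subgroup of
order at least eight. -/
theorem abelian_sylow
    (hsol : ∀ i : G, orderOf i = 2 → Group.IsSolvable (Subgroup.centralizer ({i} : Set G)))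
    (hnn : ¬ Cfsg.HasNormalPComplement 2 (Subgroup.centralizer ({t} : Set G))) :
    ∃ S : Sylow 2 G, IsMulCommutative (S : Subgroup G) ∧ 8 ∣ Nat.card G := by
  classical
  haveI := hsol t ht
  obtain ⟨D, E, W, g, hc2, hDcard, hDW, hD2, hDg, hg, hgE, hE2, hEfix, hE4, hED, hWC, hW2, hWbig,
    hsq⟩ := local_structure ht hlow hnn
  set C := Subgroup.centralizer ({t} : Set G) with hC
  have hWp : IsPGroup 2 W := fun w => ⟨1, by
    rw [pow_one, sq]; exact Subtype.ext (hW2 w w.2)⟩
  have htC : t ∈ C := mem_self t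
  obtain ⟨T, hWT, hTC, hT, hTcard⟩ := exists_full hWp hWC
  have hTab : IsMulCommutative T := isMulCommutative_of_sq hT fun u hu hu2 y _ hc => by
    obtain ⟨k, hk⟩ := exists_orderOf_eq hT hu
    exact mem_cen.1 ((hsq u (hTC hu) k hk hu2).ge (mem_cen.2 hc.eq))
  have hTc : ∀ a ∈ T, ∀ b ∈ T, a * b = b * a := fun a ha b hb =>
    congrArg Subtype.val (hTab.is_comm.comm ⟨a, ha⟩ ⟨b, hb⟩)
  have htT : t ∈ T := mem_of_full hT hTC hTcard htC (k := 1) (by rw [ht, pow_one])
    (Subgroup.centralizer_le_normalizer _ (Subgroup.mem_centralizer_iff.2 fun y hy =>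
      (mem_cen.1 (hTC hy)).symm))
  have h8 : 8 ∣ Nat.card G := by
    obtain ⟨n, hn⟩ := IsPGroup.iff_card.1 hWp
    have h3 : 3 ≤ n := by
      by_contra hlt
      have : 2 ^ n ≤ 2 ^ 2 := Nat.pow_le_pow_right two_pos (by omega)
      omega
    exact (show 8 ∣ Nat.card W from hn ▸ (pow_dvd_pow 2 h3)).trans W.card_subgroup_dvd_card
  obtain ⟨S, hTS⟩ := hT.exists_le_sylow
  by_cases hST : T = (S : Subgroup G)
  · exact ⟨S, hST ▸ hTab, h8⟩
  exfalso
  -- an element normalising `T` with square in `T`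
  obtain ⟨v, hvS, hvN, hv2, hvT⟩ : ∃ v, v ∈ (S : Subgroup G) ∧
      v ∈ Subgroup.normalizer (T : Set G) ∧ v * v ∈ T ∧ v ∉ T := by
    haveI := S.2.isNilpotent
    have hlt : T.subgroupOf S < ⊤ := lt_top_iff_ne_top.2 fun e =>
      hST (le_antisymm hTS (Subgroup.subgroupOf_eq_top.1 e))
    obtain ⟨⟨v, hvS⟩, hv1, hv2⟩ := Set.exists_of_ssubset
      (Group.normalizerCondition_of_isNilpotent (G := S) _ hlt)
    have hvN : v ∈ Subgroup.normalizer (T : Set G) := Subgroup.mem_normalizer_iff.2 fun z => by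
      constructor
      · intro hz
        have := (Subgroup.mem_normalizer_iff.1 hv1 ⟨z, hTS hz⟩).1 (Subgroup.mem_subgroupOf.2 hz)
        exact Subgroup.mem_subgroupOf.1 this
      · intro hz
        have hzS : z ∈ (S : Subgroup G) := by
          have := mul_mem (mul_mem (inv_mem hvS) (hTS hz)) hvS
          simpa [mul_assoc] using this
        exact Subgroup.mem_subgroupOf.1
          ((Subgroup.mem_normalizer_iff.1 hv1 ⟨z, hzS⟩).2 (Subgroup.mem_subgroupOf.2 hz))
    obtain ⟨k, hk⟩ := exists_orderOf_eq S.2 hvS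
    have hex : ∃ j, v ^ 2 ^ j ∈ T := ⟨k, by rw [← hk, pow_orderOf_eq_one]; exact T.one_mem⟩
    have h0 : Nat.find hex ≠ 0 := fun h => hv2 (Subgroup.mem_subgroupOf.2
      (by simpa [h] using Nat.find_spec hex))
    obtain ⟨j, hj⟩ := Nat.exists_eq_add_one_of_ne_zero h0
    refine ⟨v ^ 2 ^ j, Subgroup.pow_mem _ hvS _, Subgroup.pow_mem _ hvN _, ?_,
      Nat.find_min hex (by omega)⟩
    rw [← pow_add, show 2 ^ j + 2 ^ j = 2 ^ (j + 1) from by rw [pow_succ]; ring, ← hj]
    exact Nat.find_spec hex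
  have hvnC : v ∉ C := fun h => by
    obtain ⟨k, hk⟩ := exists_orderOf_eq S.2 hvS
    exact hvT (mem_of_full hT hTC hTcard h hk hvN)
  obtain ⟨u, huS, huN, hu2T, hunC, hu2⟩ : ∃ u, u ∈ (S : Subgroup G) ∧
      u ∈ Subgroup.normalizer (T : Set G) ∧ u * u ∈ T ∧ u ∉ C ∧ u * u ≠ 1 := by
    by_cases e : v * v = 1
    · refine ⟨v * t, mul_mem hvS (hTS htT), mul_mem hvN (Subgroup.le_normalizer htT), ?_,
        fun h => hvnC (by simpa using C.mul_mem h (C.inv_mem htC)), ?_⟩
      · have h1 := (Subgroup.mem_normalizer_iff.1 hvN t).1 htT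
        have e' : v * t * (v * t) = (v * t * v⁻¹) * ((v * v) * t) := by group
        rw [e', e, one_mul]
        exact T.mul_mem h1 htT
      · intro h
        apply hvnC
        refine mem_cen.2 ?_
        have ht2 : t⁻¹ = t := inv_eq_of_mul_eq_one_right (by rw [← sq, ← ht, pow_orderOf_eq_one])
        have hv1 : v⁻¹ = v := inv_eq_of_mul_eq_one_right e
        have h' := inv_eq_of_mul_eq_one_right h
        rw [mul_inv_rev, ht2, hv1] at h'
        exact h'
    · exact ⟨v, hvS, hvN, hv2, hvnC, e⟩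
  obtain ⟨k, hk⟩ := exists_orderOf_eq S.2 huS
  obtain ⟨m, hm⟩ := exists_invol_pow hk hu2
  set i0 := (u * u) ^ m with hi0
  have hi0T : i0 ∈ T := T.pow_mem hu2T m
  have hti : t ∈ Subgroup.centralizer ({i0} : Set G) := mem_cen.2 (hTc i0 hi0T t htT)
  have hcu := (cen_le_sq u).trans (cen_le_pow (u * u) m)
  have hu1 : u ≠ 1 := fun e => hunC (e ▸ C.one_mem)
  have hneq : cn u ≠ cn i0 := fun e => hunC (by
    have h := eq_of_le_cn hcu e
    exact mem_cen_comm.1 (h ▸ hti))
  have hcn := hlow _ hm u hu1 (cn_dvd_of_le hcu) hneq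
  -- the elements of square one of `T`
  set Ω : Subgroup G :=
    { carrier := {y | y ∈ T ∧ y * y = 1}
      mul_mem' := fun {a b} ha hb => ⟨T.mul_mem ha.1 hb.1, by
        calc a * b * (a * b) = a * (b * a) * b := by group
          _ = (a * a) * (b * b) := by rw [hTc b hb.1 a ha.1]; group
          _ = 1 := by rw [ha.2, hb.2, one_mul]⟩
      one_mem' := ⟨T.one_mem, one_mul 1⟩
      inv_mem' := fun {a} ha => ⟨T.inv_mem ha.1, by rw [← mul_inv_rev, ha.2, inv_one]⟩ } with hΩ
  have hΩu : ∀ y ∈ Ω, u * y * u⁻¹ ∈ Ω := fun y hy =>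
    ⟨(Subgroup.mem_normalizer_iff.1 huN y).1 hy.1, by
      calc u * y * u⁻¹ * (u * y * u⁻¹) = u * (y * y) * u⁻¹ := by group
        _ = 1 := by rw [hy.2]; group⟩
  set I := Ω ⊓ Subgroup.centralizer ({u} : Set G) with hI
  -- `D` meets `I` trivially
  have hDI : ∀ d ∈ D, d ∈ I → d = 1 := by
    intro d hd hdI
    by_contra hd1
    have hdo : orderOf d = 2 := orderOf_eq_prime (by rw [sq]; exact hD2 d hd) hd1
    have hud : u ∈ Subgroup.centralizer ({d} : Set G) := mem_cen_comm.1 hdI.2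
    haveI : Nontrivial E := by rw [← Finite.one_lt_card_iff_nontrivial]; omega
    obtain ⟨x, hx1⟩ := exists_ne (1 : E)
    have hnn' : ¬ Cfsg.HasNormalPComplement 2 (Subgroup.centralizer ({d} : Set G)) :=
      not_npc_of_action (fun w => ⟨1, by rw [pow_one, sq]; exact Subtype.ext (hE2 w w.2)⟩)
        (fun e he => mem_cen.2 (hED e he d hd).symm.eq) (mem_cen_comm.1 (hDg hd)) hg hgE x.2
        fun e => hx1 (Subtype.ext (hEfix x x.2 e))
    -- apply the previous steps to `d`
    have key : ∀ u' ∈ Subgroup.centralizer ({d} : Set G), ∀ k : ℕ, orderOf u' = 2 ^ k →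
        u' * u' ≠ 1 →
        Subgroup.centralizer ({u'} : Set G) = Subgroup.centralizer ({u' * u'} : Set G) := by
      haveI := hsol d hdo
      obtain ⟨D', E', W', g', -, -, -, -, -, -, -, -, -, -, -, -, -, -, h⟩ :=
        local_structure hdo hlow hnn'
      exact h
    have e := key u hud k hk hu2
    exact hunC (mem_cen_comm.1 (e.ge (mem_cen.2 (hTc _ hu2T t htT))))
  set f : Ω →* G :=
    { toFun := fun y => (y : G) * (u * y * u⁻¹)
      map_one' := by simp
      map_mul' := fun p q => by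
        have e := hTc _ q.2.1 _ (hΩu p p.2).1
        push_cast
        calc (p : G) * q * (u * (p * q) * u⁻¹) = p * (q * (u * p * u⁻¹)) * (u * q * u⁻¹) := by group
          _ = p * ((u * p * u⁻¹) * q) * (u * q * u⁻¹) := by rw [e]
          _ = _ := by group } with hf
  have hrange : f.range ≤ I := by
    rintro _ ⟨y, rfl⟩
    have hy2 := hTc _ (T.mul_mem hu2T (T.one_mem)) _ y.2.1
    rw [mul_one] at hy2
    refine ⟨Ω.mul_mem y.2 (hΩu y y.2), mem_cen.2 ?_⟩
    show u * ((y : G) * (u * y * u⁻¹)) = (y : G) * (u * y * u⁻¹) * u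
    have e := hTc _ y.2.1 _ (hΩu y y.2).1
    calc u * ((y : G) * (u * y * u⁻¹)) = (u * y * u⁻¹) * ((u * u) * y) * u⁻¹ := by group
      _ = (u * y * u⁻¹) * (y * (u * u)) * u⁻¹ := by rw [hy2]
      _ = ((u * y * u⁻¹) * y) * u := by group
      _ = (y : G) * (u * y * u⁻¹) * u := by rw [← e]
  have hker : f.ker.map Ω.subtype ≤ I := by
    rintro _ ⟨y, hy, rfl⟩
    refine ⟨y.2, mem_cen.2 ?_⟩
    have e : (y : G) * (u * y * u⁻¹) = 1 := hy
    have e2 : u * (y : G) * u⁻¹ = y :=
      (inv_eq_of_mul_eq_one_right e).symm.trans (inv_eq_of_mul_eq_one_right y.2.2)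
    exact mul_inv_eq_iff_eq_mul.1 e2
  have hΩI : Nat.card Ω ≤ Nat.card I * Nat.card I := by
    rw [← Subgroup.card_mul_index f.ker, Subgroup.index_ker]
    refine Nat.mul_le_mul ?_ (Subgroup.card_le_of_le hrange)
    rw [← Subgroup.card_map_of_injective Ω.subtype_injective]
    exact Subgroup.card_le_of_le hker
  have hDΩ : D ≤ Ω := fun d hd => ⟨hWT (hDW hd), hD2 d hd⟩
  have hprod : Nat.card D * Nat.card I ≤ Nat.card Ω := by
    rw [← Nat.card_prod]
    refine Nat.card_le_card_of_injective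
      (fun p : D × I => (⟨(p.1 : G) * p.2, Ω.mul_mem (hDΩ p.1.2) p.2.2.1⟩ : Ω)) ?_
    rintro ⟨d, y⟩ ⟨d', y'⟩ h
    have h' : (d : G) * y = d' * y' := congrArg Subtype.val h
    have h1 : (d' : G)⁻¹ * d = y' * (y : G)⁻¹ := by
      rw [eq_mul_inv_iff_mul_eq, mul_assoc, h', inv_mul_cancel_left]
    have h2 := hDI _ (D.mul_mem (D.inv_mem d'.2) d.2) (h1 ▸ I.mul_mem y'.2 (I.inv_mem y.2))
    have he : d = d' := Subtype.ext (inv_mul_eq_one.1 h2).symm
    subst he
    exact Prod.ext rfl (Subtype.ext (mul_left_cancel h'))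
  have huI : u ∉ I := fun h => hunC (hTC h.1.1)
  have hIp : IsPGroup 2 I := hT.to_le fun y hy => hy.1.1
  have hJ : IsPGroup 2 (Subgroup.zpowers u ⊔ I : Subgroup G) :=
    IsPGroup.to_sup_of_normal_right' (isPGroup_zpowers hk) hIp (Subgroup.zpowers_le.2
      (Subgroup.centralizer_le_normalizer _ (Subgroup.mem_centralizer_iff.2 fun y hy =>
        (mem_cen.1 hy.2).symm)))
  have hJle : Subgroup.zpowers u ⊔ I ≤ Subgroup.centralizer ({u} : Set G) :=
    sup_le (Subgroup.zpowers_le.2 (mem_self u)) inf_le_right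
  have hJc := card_le_ordProj hJ hJle
  rw [show Nat.card (Subgroup.centralizer ({u} : Set G)) = cn u from rfl, hcn] at hJc
  have hIJ : Nat.card I < Nat.card (Subgroup.zpowers u ⊔ I : Subgroup G) := by
    refine lt_of_le_of_ne (Subgroup.card_le_of_le le_sup_right) fun e => huI ?_
    rw [Subgroup.eq_of_le_of_card_ge (le_sup_right : I ≤ Subgroup.zpowers u ⊔ I) e.ge]
    exact Subgroup.mem_sup_left (Subgroup.mem_zpowers u)
  rw [hDcard] at hprod
  have := Nat.le_of_mul_le_mul_right (hprod.trans hΩI) Nat.card_pos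
  omega


end Involution

end Cfsg.Agent.Lib.RankFour54.Local
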