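import Mathlib
import Cfsg.Agent.Lib.RankFour54.Local
import Cfsg.Agent.Lib.PSL34Orders.Basic
import Cfsg.Agent.Lib.SzTori.Count
import Cfsg.Agent.Lib.Involutions.Basic

/-!
# `A₇`, `PSL₃(4)` and the Suzuki groups have at least five centraliser orders
-/

set_option autoImplicit false
set_option linter.style.haveILetI false
set_option linter.unusedSectionVars false

namespace Cfsg.Agent.Lib.RankFour54.Exclude

open Cfsg.Agent.Lib.ClassSizes.Basic
open Cfsg.Agent.Lib.Inv59.RankThree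
open Cfsg.Agent.Lib.RankFour54

universe u v

theorem vals_congr {G : Type u} {H : Type v} [Group G] [Group H] (e : G ≃* H) :
    Cross.vals G = Cross.vals H := by
  have hcn : ∀ x : G, cn (e x) = cn x := fun x => by
    have h := Subgroup.card_map_of_injective (K := Subgroup.centralizer ({x} : Set G))
      (f := e.toMonoidHom) e.injective
    rw [cn, cn, ← h]
    congr 2
    ext y
    obtain ⟨z, rfl⟩ := e.surjective y
    simp [Subgroup.mem_centralizer_singleton_iff, ← map_mul,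
      e.injective.eq_iff]
  ext v
  constructor
  · rintro ⟨x, hx, rfl⟩
    exact ⟨e x, fun h => hx (e.injective (h.trans (map_one e).symm)), hcn x⟩
  · rintro ⟨y, hy, rfl⟩
    obtain ⟨x, rfl⟩ := e.surjective y
    exact ⟨x, fun h => hy (by rw [Set.mem_singleton_iff] at h; rw [h, map_one]; rfl), (hcn x).symm⟩

theorem ne_four {G : Type u} [Group G] [Finite G] {a b c d e : ℕ} (ha : a ∈ Cross.vals G)
    (hb : b ∈ Cross.vals G) (hc : c ∈ Cross.vals G) (hd : d ∈ Cross.vals G)
    (he : e ∈ Cross.vals G) (hn : [a, b, c, d, e].Nodup) : (Cross.vals G).ncard ≠ 4 := by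
  intro h
  simp only [List.nodup_cons, List.mem_cons, List.not_mem_nil, or_false, not_or, List.nodup_nil,
    and_true, not_false_eq_true] at hn
  obtain ⟨⟨hab, hac, had, hae⟩, ⟨hbc, hbd, hbe⟩, ⟨hcd, hce⟩, hde⟩ := hn
  rcases Cross.eq_of_four h ha hb hc hd he hab hac had hbc hbd hcd with e' | e' | e' | e'
  · exact hae e'.symm
  · exact hbe e'.symm
  · exact hce e'.symm
  · exact hde e'.symm

/-! ### `A₇` -/

open Equiv in
theorem two_mul_cn {n : ℕ} (x : alternatingGroup (Fin n)) (g : Perm (Fin n))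
    (hg : Perm.sign g = -1) (hc : (x : Perm (Fin n)) * g = g * x) :
    2 * cn x = Nat.card (Subgroup.centralizer ({(x : Perm (Fin n))} : Set (Perm (Fin n)))) := by
  set K := Subgroup.centralizer ({(x : Perm (Fin n))} : Set (Perm (Fin n))) with hK
  set f : K →* ℤˣ := Perm.sign.comp K.subtype with hf
  have hsurj : f.range = ⊤ := by
    rw [MonoidHom.range_eq_top]
    intro u
    rcases Int.units_eq_one_or u with rfl | rfl
    · exact ⟨1, map_one f⟩
    · exact ⟨⟨g, mem_cen.2 hc⟩, hg⟩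
  have hker : f.ker.map K.subtype =
      (Subgroup.centralizer ({x} : Set (alternatingGroup (Fin n)))).map
        (alternatingGroup (Fin n)).subtype := by
    ext y
    constructor
    · rintro ⟨z, hz, rfl⟩
      exact ⟨⟨z, hz⟩, mem_cen.2 (Subtype.ext (mem_cen.1 z.2)), rfl⟩
    · rintro ⟨z, hz, rfl⟩
      exact ⟨⟨z, mem_cen.2 (congrArg Subtype.val (mem_cen.1 hz))⟩, z.2, rfl⟩
  rw [← Subgroup.card_mul_index f.ker, Subgroup.index_ker, hsurj, Subgroup.card_top,
    ← Subgroup.card_map_of_injective (K := f.ker) K.subtype_injective, hker,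
    Subgroup.card_map_of_injective (alternatingGroup (Fin n)).subtype_injective, cn, mul_comm]
  simp

open Equiv in
theorem alt_seven : (Cross.vals (alternatingGroup (Fin 7))).ncard ≠ 4 := by
  have key : ∀ (x g : Perm (Fin 7)) (m : Multiset ℕ) (hx : Perm.sign x = 1), Perm.sign g = -1 →
      x * g = g * x → x.cycleType = m →
      cn (⟨x, hx⟩ : alternatingGroup (Fin 7)) * 2 =
        (7 - m.sum).factorial * m.prod * ∏ k ∈ m.toFinset, (m.count k).factorial := by
    intro x g m hx hg hc hm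
    rw [mul_comm, two_mul_cn ⟨x, hx⟩ g hg hc, Perm.nat_card_centralizer, hm, Fintype.card_fin]
  have e1 := key (c[(0 : Fin 7), 1, 2]) (c[(3 : Fin 7), 4]) {3} (by decide +kernel)
    (by decide +kernel) (by decide +kernel) (by decide +kernel)
  have e2 := key (c[(0 : Fin 7), 1] * c[2, 3]) (c[(0 : Fin 7), 1]) {2, 2} (by decide +kernel)
    (by decide +kernel) (by decide +kernel) (by decide +kernel)
  have e3 := key (c[(0 : Fin 7), 1, 2] * c[3, 4, 5]) (c[(0 : Fin 7), 3] * c[1, 4] * c[2, 5]) {3, 3}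
    (by decide +kernel) (by decide +kernel) (by decide +kernel) (by decide +kernel)
  have e4 := key (c[(0 : Fin 7), 1, 2, 3, 4]) (c[(5 : Fin 7), 6]) {5} (by decide +kernel)
    (by decide +kernel) (by decide +kernel) (by decide +kernel)
  have e5 := key (c[(0 : Fin 7), 1, 2, 3] * c[4, 5]) (c[(4 : Fin 7), 5]) {4, 2} (by decide +kernel)
    (by decide +kernel) (by decide +kernel) (by decide +kernel)
  have f1 : (7 - ({3} : Multiset ℕ).sum).factorial * ({3} : Multiset ℕ).prod *
      ∏ k ∈ ({3} : Multiset ℕ).toFinset, (({3} : Multiset ℕ).count k).factorial = 72 := by decide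
  have f2 : (7 - ({2, 2} : Multiset ℕ).sum).factorial * ({2, 2} : Multiset ℕ).prod *
      ∏ k ∈ ({2, 2} : Multiset ℕ).toFinset, (({2, 2} : Multiset ℕ).count k).factorial = 48 := by
    decide
  have f3 : (7 - ({3, 3} : Multiset ℕ).sum).factorial * ({3, 3} : Multiset ℕ).prod *
      ∏ k ∈ ({3, 3} : Multiset ℕ).toFinset, (({3, 3} : Multiset ℕ).count k).factorial = 18 := by
    decide
  have f4 : (7 - ({5} : Multiset ℕ).sum).factorial * ({5} : Multiset ℕ).prod *
      ∏ k ∈ ({5} : Multiset ℕ).toFinset, (({5} : Multiset ℕ).count k).factorial = 10 := by decide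
  have f5 : (7 - ({4, 2} : Multiset ℕ).sum).factorial * ({4, 2} : Multiset ℕ).prod *
      ∏ k ∈ ({4, 2} : Multiset ℕ).toFinset, (({4, 2} : Multiset ℕ).count k).factorial = 8 := by
    decide
  rw [f1] at e1; rw [f2] at e2; rw [f3] at e3; rw [f4] at e4; rw [f5] at e5
  refine ne_four (Cross.mem_vals (x := (⟨c[(0 : Fin 7), 1, 2], by rw [Perm.mem_alternatingGroup]; decide +kernel⟩ :
      alternatingGroup (Fin 7))) ?_)
    (Cross.mem_vals (x := (⟨c[(0 : Fin 7), 1] * c[2, 3], by rw [Perm.mem_alternatingGroup]; decide +kernel⟩ :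
      alternatingGroup (Fin 7))) ?_)
    (Cross.mem_vals (x := (⟨c[(0 : Fin 7), 1, 2] * c[3, 4, 5], by rw [Perm.mem_alternatingGroup]; decide +kernel⟩ :
      alternatingGroup (Fin 7))) ?_)
    (Cross.mem_vals (x := (⟨c[(0 : Fin 7), 1, 2, 3, 4], by rw [Perm.mem_alternatingGroup]; decide +kernel⟩ :
      alternatingGroup (Fin 7))) ?_)
    (Cross.mem_vals (x := (⟨c[(0 : Fin 7), 1, 2, 3] * c[4, 5], by rw [Perm.mem_alternatingGroup]; decide +kernel⟩ :
      alternatingGroup (Fin 7))) ?_) ?_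
  all_goals first
    | (intro h
       exact absurd (congrArg Subtype.val h) (by decide +kernel))
    | (simp only [List.nodup_cons, List.mem_cons, List.not_mem_nil, or_false, not_or,
        List.nodup_nil, and_true, not_false_eq_true]
       omega)

/-! ### `PSL₃(4)` -/

section PSL34

open Cfsg.Agent.Lib.Golay.PSL34 Cfsg.Agent.Lib.PSL34Orders

local notation "M3" => Matrix (Fin 3) (Fin 3) F4
local notation "P34" => Matrix.ProjectiveSpecialLinearGroup (Fin 3) F4

/-- The absence of elements of order `p * r` is a finite check on the coefficients. -/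
theorem no_order {n p r : ℕ}
    (k2 : ∀ a b : F4, (co2 a b n).1 = 0 → (co2 a b p).1 = 0 ∨ (co2 a b r).1 = 0)
    (k3 : ∀ a b : F4, ((co3 a b 1 n).1 = 0 ∧ (co3 a b 1 n).2.1 = 0) →
      ((co3 a b 1 p).1 = 0 ∧ (co3 a b 1 p).2.1 = 0) ∨ ((co3 a b 1 r).1 = 0 ∧ (co3 a b 1 r).2.1 = 0))
    (x : P34) (hx : orderOf x = n) : orderOf x ∣ p ∨ orderOf x ∣ r := by
  obtain ⟨g, rfl⟩ := QuotientGroup.mk_surjective x
  have key : ∀ k, (QuotientGroup.mk g : P34) ^ k = 1 ↔ IsScal ((g : M3) ^ k) := fun k => by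
    rw [← QuotientGroup.mk_pow, QuotientGroup.eq_one_iff, mem_center_iff_scal]
    simp
  obtain ⟨m, hm⟩ : ∃ m : M3, (g : M3) = m := ⟨_, rfl⟩
  have hdet : m.det = 1 := hm ▸ g.2
  have hn := (key n).1 (by rw [← hx, pow_orderOf_eq_one])
  rw [hm] at hn
  suffices h : IsScal (m ^ p) ∨ IsScal (m ^ r) by
    rcases h with h | h
    · exact Or.inl (orderOf_dvd_of_pow_eq_one ((key p).2 (hm ▸ h)))
    · exact Or.inr (orderOf_dvd_of_pow_eq_one ((key r).2 (hm ▸ h)))
  by_cases hs : IsScal m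
  · obtain ⟨s, hs⟩ := hs
    exact Or.inl ⟨s ^ p, by rw [hs, smul_pow, one_pow]⟩
  have indep2 : ∀ β γ : F4, β • m + γ • (1 : M3) = 0 → β = 0 := by
    intro β γ he
    by_contra hb
    refine hs ⟨β⁻¹ * -γ, ?_⟩
    rw [← smul_smul, neg_smul, ← eq_neg_of_add_eq_zero_left he, smul_smul, inv_mul_cancel₀ hb,
      one_smul]
  obtain ⟨s, hs'⟩ := hn
  by_cases hA : ∃ a b : F4, m * m = a • m + b • (1 : M3)
  · obtain ⟨a, b, hab⟩ := hA
    have h0 : (co2 a b n).1 = 0 := by
      refine indep2 _ ((co2 a b n).2 - s) ?_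
      rw [sub_smul, ← hs', pow_co2 m hab n]
      abel
    rcases k2 a b h0 with h5 | h3
    · exact Or.inl ⟨_, by rw [pow_co2 m hab p, h5, zero_smul, zero_add]⟩
    · exact Or.inr ⟨_, by rw [pow_co2 m hab r, h3, zero_smul, zero_add]⟩
  · have indep3 : ∀ α β γ : F4, α • (m * m) + β • m + γ • (1 : M3) = 0 → α = 0 ∧ β = 0 := by
      intro α β γ he
      by_cases ha : α = 0
      · subst ha
        rw [zero_smul, zero_add] at he
        exact ⟨rfl, indep2 β γ he⟩
      · refine absurd ⟨α⁻¹ * -β, α⁻¹ * -γ, ?_⟩ hA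
        rw [← smul_smul, ← smul_smul, neg_smul, neg_smul, ← smul_add, ← neg_add,
          ← eq_neg_of_add_eq_zero_left (by rwa [← add_assoc]), smul_smul, inv_mul_cancel₀ ha,
          one_smul]
    obtain ⟨a, b, habc⟩ := exists_cubic m hdet
    have h0 : (co3 a b 1 n).1 = 0 ∧ (co3 a b 1 n).2.1 = 0 := by
      refine indep3 _ _ ((co3 a b 1 n).2.2 - s) ?_
      rw [sub_smul, ← hs', pow_co3 m habc n]
      abel
    rcases k3 a b h0 with ⟨h5, h5'⟩ | ⟨h3, h3'⟩
    · exact Or.inl ⟨_, by rw [pow_co3 m habc p, h5, h5', zero_smul, zero_smul, zero_add, zero_add]⟩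
    · exact Or.inr ⟨_, by rw [pow_co3 m habc r, h3, h3', zero_smul, zero_smul, zero_add, zero_add]⟩

/-- No element has order the product of two different primes. -/
theorem no_two_primes (x : P34) {p r : ℕ} (hp : p.Prime) (hr : r.Prime) (hne : p < r) :
    orderOf x ≠ p * r := by
  intro hx
  have hd : p * r ∣ 20160 := hx ▸ Lib.Golay.PSL34.card_PSL ▸ orderOf_dvd_natCard x
  have hpr : ∀ q : ℕ, q.Prime → q ∣ 20160 → q = 2 ∨ q = 3 ∨ q = 5 ∨ q = 7 := by
    intro q hq hd
    rw [show (20160 : ℕ) = 2 ^ 6 * 3 ^ 2 * 5 * 7 by norm_num, hq.dvd_mul, hq.dvd_mul, hq.dvd_mul] at hd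
    rcases hd with ((h | h) | h) | h
    · exact Or.inl ((Nat.prime_dvd_prime_iff_eq hq Nat.prime_two).1 (hq.dvd_of_dvd_pow h))
    · exact Or.inr (Or.inl ((Nat.prime_dvd_prime_iff_eq hq Nat.prime_three).1 (hq.dvd_of_dvd_pow h)))
    · exact Or.inr (Or.inr (Or.inl ((Nat.prime_dvd_prime_iff_eq hq (by norm_num)).1 h)))
    · exact Or.inr (Or.inr (Or.inr ((Nat.prime_dvd_prime_iff_eq hq (by norm_num)).1 h)))
  have hfin : orderOf x ∣ p ∨ orderOf x ∣ r := by
    rcases hpr p hp ((dvd_mul_right p r).trans hd) with rfl | rfl | rfl | rfl <;>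
      rcases hpr r hr ((dvd_mul_left r _).trans hd) with rfl | rfl | rfl | rfl <;>
      first
        | omega
        | exact no_order (by decide +kernel) (by decide +kernel) x hx
  rw [hx] at hfin
  rcases hfin with h | h
  · exact absurd (Nat.le_of_dvd hp.pos h) (not_le.2 (lt_mul_of_one_lt_right hp.pos hr.one_lt))
  · exact absurd (Nat.le_of_dvd hr.pos h) (not_le.2 (lt_mul_of_one_lt_left hr.pos hp.one_lt))

theorem psl34 : (Cross.vals P34).ncard ≠ 4 := by
  classical
  intro h4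
  -- centraliser orders are prime powers
  have hpp : ∀ (x : P34) (p i : ℕ), p.Prime → orderOf x = p ^ i → x ≠ 1 →
      ∀ r : ℕ, r.Prime → r ∣ cn x → r = p := by
    intro x p i hp hxo hx1 r hr hd
    by_contra hne
    haveI := Fact.mk hr
    obtain ⟨y, hy⟩ := exists_prime_orderOf_dvd_card'
      (G := Subgroup.centralizer ({x} : Set P34)) r hd
    rw [← Subgroup.orderOf_coe] at hy
    obtain ⟨k, hk, -⟩ := exists_pow_of_dvd hp (hxo ▸ dvd_pow_self p fun e =>
      hx1 (orderOf_eq_one_iff.1 (by rw [hxo, e, pow_zero])))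
    have hc : Commute (x ^ k) (y : P34) := (show Commute x (y : P34) from mem_cen.1 y.2).pow_left k
    have ho : orderOf (x ^ k * y) = p * r := by
      rw [hc.orderOf_mul_eq_mul_orderOf_of_coprime (by
        rw [hk, hy]; exact (Nat.coprime_primes hp hr).2 (Ne.symm hne)), hk, hy]
    rcases lt_or_gt_of_ne hne with h | h
    · exact no_two_primes _ hr hp h (ho.trans (mul_comm p r))
    · exact no_two_primes _ hp hr h ho
  have hel : ∀ p : ℕ, p.Prime → p ∣ 20160 → ∃ x : P34, orderOf x = p := fun p hp hd => by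
    haveI := Fact.mk hp
    exact exists_prime_orderOf_dvd_card' p (Lib.Golay.PSL34.card_PSL.symm ▸ hd)
  obtain ⟨x2, hx2⟩ := hel 2 Nat.prime_two (by norm_num)
  obtain ⟨x3, hx3⟩ := hel 3 Nat.prime_three (by norm_num)
  obtain ⟨x5, hx5⟩ := hel 5 (by norm_num) (by norm_num)
  obtain ⟨x7, hx7⟩ := hel 7 (by norm_num) (by norm_num)
  have hne : ∀ (x y : P34) (p q i j : ℕ), p.Prime → q.Prime → p ≠ q → orderOf x = p ^ i →
      orderOf y = q ^ j → x ≠ 1 → y ≠ 1 → cn x ≠ cn y := by
    intro x y p q i j hp hq hpq hx hy hx1 hy1 e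
    have hi : i ≠ 0 := fun e0 => hx1 (orderOf_eq_one_iff.1 (by rw [hx, e0, pow_zero]))
    have : p ∣ cn y := e ▸ (dvd_trans (hx ▸ dvd_pow_self p hi) (orderOf_dvd_cn x))
    exact hpq (hpp y q j hq hy hy1 p hp this)
  have g2 : x2 ≠ 1 := ne_one_of_prime Nat.prime_two hx2
  have g3 : x3 ≠ 1 := ne_one_of_prime Nat.prime_three hx3
  have g5 : x5 ≠ 1 := ne_one_of_prime (by norm_num) hx5
  have g7 : x7 ≠ 1 := ne_one_of_prime (by norm_num) hx7
  have p5 : Nat.Prime 5 := by norm_num
  have p7 : Nat.Prime 7 := by norm_num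
  have o2 : orderOf x2 = 2 ^ 1 := by rw [hx2, pow_one]
  have o3 : orderOf x3 = 3 ^ 1 := by rw [hx3, pow_one]
  have o5 : orderOf x5 = 5 ^ 1 := by rw [hx5, pow_one]
  have o7 : orderOf x7 = 7 ^ 1 := by rw [hx7, pow_one]
  -- all 2-elements have the same value
  have htwo : ∀ (z : P34) (j : ℕ), orderOf z = 2 ^ j → z ≠ 1 → cn z = cn x2 := by
    intro z j hz hz1
    have h := Cross.eq_of_four h4 (Cross.mem_vals g2) (Cross.mem_vals g3) (Cross.mem_vals g5)
      (Cross.mem_vals g7) (Cross.mem_vals hz1)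
      (hne _ _ 2 3 1 1 Nat.prime_two Nat.prime_three (by norm_num) o2 o3 g2 g3)
      (hne _ _ 2 5 1 1 Nat.prime_two p5 (by norm_num) o2 o5 g2 g5)
      (hne _ _ 2 7 1 1 Nat.prime_two p7 (by norm_num) o2 o7 g2 g7)
      (hne _ _ 3 5 1 1 Nat.prime_three p5 (by norm_num) o3 o5 g3 g5)
      (hne _ _ 3 7 1 1 Nat.prime_three p7 (by norm_num) o3 o7 g3 g7)
      (hne _ _ 5 7 1 1 p5 p7 (by norm_num) o5 o7 g5 g7)
    rcases h with h | h | h | h
    · exact h
    · exact absurd h (hne _ _ 2 3 j 1 Nat.prime_two Nat.prime_three (by norm_num) hz o3 hz1 g3)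
    · exact absurd h (hne _ _ 2 5 j 1 Nat.prime_two p5 (by norm_num) hz o5 hz1 g5)
    · exact absurd h (hne _ _ 2 7 j 1 Nat.prime_two p7 (by norm_num) hz o7 hz1 g7)
  -- a dihedral group of order eight
  let a : SL34 := Matrix.SpecialLinearGroup.transvection (i := (0 : Fin 3)) (j := 1) (by decide) 1
  let b : SL34 := Matrix.SpecialLinearGroup.transvection (i := (1 : Fin 3)) (j := 2) (by decide) 1
  set X : P34 := QuotientGroup.mk a with hX
  set Y : P34 := QuotientGroup.mk b with hY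
  have hXY : X * Y ≠ Y * X := by
    intro e
    have h1 : (QuotientGroup.mk (a * b * (b * a)⁻¹) : P34) = 1 := by
      rw [QuotientGroup.mk_mul, QuotientGroup.mk_inv, QuotientGroup.mk_mul, QuotientGroup.mk_mul,
        ← hX, ← hY, e, mul_inv_cancel]
    rw [QuotientGroup.eq_one_iff, mem_center_iff_scal] at h1
    obtain ⟨s, hs⟩ := h1
    have h01 := congrFun (congrFun hs 0) 2
    rw [Matrix.smul_apply] at h01
    revert h01
    simp only [a, b]
    revert s
    decide +kernel
  have hX2 : X * X = 1 := by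
    rw [hX, ← QuotientGroup.mk_mul, show a * a = 1 by decide +kernel, QuotientGroup.mk_one]
  have hY2 : Y * Y = 1 := by
    rw [hY, ← QuotientGroup.mk_mul, show b * b = 1 by decide +kernel, QuotientGroup.mk_one]
  have h4' : (X * Y) ^ 4 = 1 := by
    rw [hX, hY, ← QuotientGroup.mk_mul, ← QuotientGroup.mk_pow,
      show (a * b) ^ 4 = 1 by decide +kernel, QuotientGroup.mk_one]
  have hXo : orderOf X = 2 := orderOf_eq_prime (by rw [sq, hX2]) fun e => hXY (by
    rw [e, one_mul, mul_one])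
  have hYo : orderOf Y = 2 := orderOf_eq_prime (by rw [sq, hY2]) fun e => hXY (by
    rw [e, one_mul, mul_one])
  have hQ : IsPGroup 2 (Subgroup.closure ({X, Y} : Set P34)) := by
    obtain ⟨j, -, hj⟩ := (Nat.dvd_prime_pow Nat.prime_two).1
      (show orderOf (X * Y) ∣ 2 ^ 2 from orderOf_dvd_of_pow_eq_one h4')
    exact IsPGroup.of_card (n := j + 1) (by
      rw [Involutions.Basic.card_closure_pair hXo hYo, hj, pow_succ'])
  have hab := Local.isMulCommutative_of_sq hQ fun z hz hz2 w _ hc => by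
    obtain ⟨j, hj⟩ := exists_orderOf_eq hQ hz
    have hz1 : z ≠ 1 := fun e => hz2 (by rw [e, one_mul])
    obtain ⟨i, hi⟩ := exists_orderOf_eq hQ (mul_mem hz hz)
    have e := eq_of_le_cn (Local.cen_le_sq z)
      ((htwo z j hj hz1).trans (htwo _ i hi hz2).symm)
    exact mem_cen.1 (e.ge (mem_cen.2 hc.eq))
  exact hXY (congrArg Subtype.val (hab.is_comm.comm
    ⟨X, Subgroup.subset_closure (by simp)⟩ ⟨Y, Subgroup.subset_closure (by simp)⟩))

end PSL34

/-! ### The Suzuki groups -/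

section Sz

open Cfsg.Agent.Lib.LieTwisted.Suzuki Cfsg.Agent.Lib.SzTori

variable {F : Type*} [Field F] [Fintype F] {m : ℕ}

theorem suzuki (h : IsSzField F m) (hm : 1 ≤ m) : (Cross.vals (Cfsg.Sz F m)).ncard ≠ 4 := by
  classical
  obtain ⟨hc, hex⟩ := torus_orders h hm
  set q := 2 ^ (2 * m + 1) with hq
  set r := 2 ^ (m + 1) with hr
  obtain ⟨gp, hgp, hcp⟩ := hex (q + r + 1) (by simp)
  obtain ⟨gm, hgm, hcm⟩ := hex (q - r + 1) (by simp)
  obtain ⟨e, he⟩ := SzTori.exists_ne_one h hm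
  have hd : cn (dS h e) = q - 1 := by
    rw [cn, centralizer_dS h hm he, card_range_dS h hm, h.card]
  have hd1 : dS h e ≠ 1 := fun e1 => he (h.dS_injective (e1.trans (map_one _).symm))
  -- an element of order four and its square
  set u := uS h (1 : F) 0 with hu
  set t := uS h (0 : F) 1 with ht
  have hne : ∀ {a b : F}, ¬ (a = 0 ∧ b = 0) → uS h a b ≠ 1 := fun hab e1 => by
    rw [← h.uS_zero] at e1
    exact hab (h.uS_coords_inj e1)
  have hu1 : u ≠ 1 := hne (by simp)
  have ht1 : t ≠ 1 := hne (by simp)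
  have hct : Subgroup.centralizer ({t} : Set (Cfsg.Sz F m)) = unip h := by
    refine le_antisymm (centralizer_unip_le h hm (h.uS_mem _ _) ht1) ?_
    rintro _ ⟨a, b, rfl⟩
    rw [ht, mem_cen, h.uS_mul, h.uS_mul, sg_zero]
    congr 1 <;> ring
  have hcu := centralizer_unip_le h hm (h.uS_mem 1 0) hu1
  have hlt : cn u < cn t := by
    rw [cn, cn, hct]
    refine lt_of_le_of_ne (Subgroup.card_le_of_le hcu) fun e' => ?_
    have heq := Subgroup.eq_of_le_of_card_ge hcu e'.ge
    obtain ⟨c, hc01⟩ : ∃ c : F, c ∉ ({0, 1} : Finset F) := by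
      by_contra! hno
      have h3 : Fintype.card F ≤ 2 := by
        rw [← Finset.card_univ]
        exact (Finset.card_le_card fun x _ => hno x).trans Finset.card_le_two
      rw [h.card] at h3
      have : 2 ^ 3 ≤ 2 ^ (2 * m + 1) := Nat.pow_le_pow_right two_pos (by omega)
      omega
    simp only [Finset.mem_insert, Finset.mem_singleton, not_or] at hc01
    have hmem : uS h c 0 ∈ Subgroup.centralizer ({u} : Set (Cfsg.Sz F m)) := by
      rw [hu, heq]; exact h.uS_mem c 0
    rw [hu, mem_cen, h.uS_mul, h.uS_mul] at hmem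
    have h2 := (h.uS_coords_inj hmem).2
    rw [sg_one, one_mul, mul_one] at h2
    simp only [zero_add] at h2
    have h3 := h.sg_sg c
    rw [← h2, ← h2] at h3
    have h4 : c * (c - 1) = 0 := by linear_combination -h3
    rcases mul_eq_zero.1 h4 with h5 | h5
    · exact hc01.1 h5
    · exact hc01.2 (sub_eq_zero.1 h5)
  have heven : ∀ x : Cfsg.Sz F m, x ∈ unip h → x ≠ 1 → 2 ∣ cn x := by
    intro x hx hx1
    have h4 : orderOf x ∣ 2 ^ 2 := orderOf_dvd_of_pow_eq_one (pow_four_of_mem h hm hx)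
    obtain ⟨j, -, hj⟩ := (Nat.dvd_prime_pow Nat.prime_two).1 h4
    have hj0 : j ≠ 0 := fun e0 => hx1 (orderOf_eq_one_iff.1 (by rw [hj, e0, pow_zero]))
    exact (hj ▸ dvd_pow_self 2 hj0).trans (orderOf_dvd_cn x)
  have heu := heven u (h.uS_mem 1 0) hu1
  have het := heven t (h.uS_mem 0 1) ht1
  have hqr : 2 * r ≤ q := by
    rw [hq, hr, ← pow_succ']
    exact Nat.pow_le_pow_right two_pos (by omega)
  have hr4 : 4 ≤ r := by
    rw [hr]; exact le_trans (by norm_num) (Nat.pow_le_pow_right two_pos (show 2 ≤ m + 1 by omega))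
  have heq : 2 ∣ q := hq ▸ dvd_pow_self 2 (by omega)
  have her : 2 ∣ r := hr ▸ dvd_pow_self 2 (by omega)
  refine ne_four (Cross.mem_vals hu1) (Cross.mem_vals ht1) (Cross.mem_vals hd1)
    (Cross.mem_vals hgp.1) (Cross.mem_vals hgm.1) ?_
  have hp' : cn gp = q + r + 1 := hcp
  have hm' : cn gm = q - r + 1 := hcm
  rw [hd, hp', hm']
  simp only [List.nodup_cons, List.mem_cons, List.not_mem_nil, or_false, not_or, List.nodup_nil,
    and_true, not_false_eq_true]
  omega

end Sz

end Cfsg.Agent.Lib.RankFour54.Exclude
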