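import Mathlib
import Cfsg.Agent.Lib.RankFour54.Local
import Cfsg.Agent.S3188
import Cfsg.Agent.S3192
import Cfsg.Agent.S3214
import Cfsg.Agent.Lib.Linear.Order
import Cfsg.Agent.Lib.Linear.Simple

/-!
# In a simple group with four centraliser orders involution centralisers have normal 2-complements
-/

set_option autoImplicit false
set_option linter.style.haveILetI false
set_option linter.unusedSectionVars false

namespace Cfsg.Agent.Lib.RankFour54.Main

open Cfsg.Agent.Lib.ClassSizes.Basic
open Cfsg.Agent.Lib.Inv59.RankThree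
open Cfsg.Agent.Lib.RankFour54

universe u

variable {G : Type u} [Group G] [Finite G] [IsSimpleGroup G] (hG : ¬ IsMulCommutative G)
include hG

/-- No group `PSL₂(q)` with `q` even has four centraliser orders. -/
theorem not_even (h4 : (Cross.vals G).ncard = 4) {F : Type} [Field F] [Fintype F]
    (h2 : 2 ∣ Fintype.card F) (hq : 4 ≤ Fintype.card F)
    (e : G ≃* Matrix.ProjectiveSpecialLinearGroup (Fin 2) F) : False := by
  obtain ⟨n, hp, hn⟩ := FiniteField.card F (ringChar F)
  have hc : ringChar F = 2 := ((Nat.prime_dvd_prime_iff_eq Nat.prime_two hp).1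
    (Nat.prime_two.dvd_of_dvd_pow (hn ▸ h2))).symm
  rw [hc] at hn
  have hm : 2 ≤ (n : ℕ) := by
    by_contra hlt
    have : 2 ^ (n : ℕ) ≤ 2 ^ 1 := Nat.pow_le_pow_right two_pos (by omega)
    omega
  obtain ⟨-, -, h3⟩ := Cfsg.Agent.S3192.reverse hm hn
  rw [← Cfsg.Agent.S3192.index_set_iso e, Cfsg.Agent.S3192.ncard_index_set hG] at h3
  rw [Cross.vals, h3] at h4
  omega

/-- A simple group with four centraliser orders has 2-nilpotent involution centralisers. -/
theorem npc (h4 : (Cross.vals G).ncard = 4) {t : G} (ht : orderOf t = 2) :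
    Cfsg.HasNormalPComplement 2 (Subgroup.centralizer ({t} : Set G)) := by
  by_contra hnn
  have hsol : ∀ i : G, orderOf i = 2 → Group.IsSolvable (Subgroup.centralizer ({i} : Set G)) :=
    fun i hi => Local.solvable_centralizer hi hG h4
  haveI := hsol t ht
  obtain ⟨r, hr, hrK⟩ := Struct.exists_odd_outside hnn
  have hr' : Odd (orderOf (r : G)) := by rwa [Subgroup.orderOf_coe]
  have hrc : ¬ Subgroup.centralizer ({t} : Set G) ≤ Subgroup.centralizer ({(r : G)} : Set G) := by
    intro hle
    apply hrK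
    have hz := Local.mem_center_subtype.2 hle
    haveI : (Subgroup.zpowers r).Normal := ⟨fun n hn y => by
      obtain ⟨i, rfl⟩ := Subgroup.mem_zpowers_iff.1 hn
      rw [Subgroup.mem_center_iff.1 ((Subgroup.center _).zpow_mem hz i) y, mul_inv_cancel_right]
      exact Subgroup.zpow_mem _ (Subgroup.mem_zpowers r) i⟩
    exact Cores.le_pPrimeCore (by rw [Nat.card_zpowers]; exact Nat.coprime_two_right.2 hr)
      (Subgroup.mem_zpowers r)
  obtain ⟨-, h1, h2⟩ := Local.tmul ht r.2 hr'
  have h3 := Local.tmul_ne ht r.2 hr' hrc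
  have hlow : Local.Low G (cn (t * (r : G))) := fun i hi w hw hd hne =>
    Cross.lower_global hG h4 hi ht (Cross.mem_vals hw) (Cross.mem_vals h1) hd h2 hne h3
  obtain ⟨S, hS, h8⟩ := Local.abelian_sylow ht hlow hsol hnn
  rcases Cfsg.Agent.S3188.result S hS hsol with h | ⟨F, hF, hFt, hcase, N, hN, ⟨e⟩, -⟩
  · exact hG ⟨⟨IsSimpleGroup.comm_iff_isSolvable.2 h⟩⟩
  have hcore : Cfsg.oddCore G = ⊥ := by
    rcases IsSimpleGroup.eq_bot_or_eq_top_of_normal (Cfsg.oddCore G)
      (inferInstanceAs (Cfsg.pPrimeCore 2 G).Normal) with h | h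
    · exact h
    · have : Odd (Nat.card (Cfsg.oddCore G)) :=
        Nat.coprime_two_right.1 (Cores.pPrimeCore_coprime 2)
      rw [h, Subgroup.card_top] at this
      exact absurd (even_iff_two_dvd.2 ((dvd_trans (by norm_num : 2 ∣ 8) h8)))
        (Nat.not_even_iff_odd.2 this)
  let q : G ⧸ Cfsg.oddCore G ≃* G :=
    (QuotientGroup.quotientMulEquivOfEq hcore).trans QuotientGroup.quotientBot
  haveI : IsSimpleGroup (G ⧸ Cfsg.oddCore G) := q.isSimpleGroup
  have h5 : 4 ≤ Fintype.card F := by
    rcases hcase with ⟨-, h⟩ | ⟨n, hn, h⟩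
    · omega
    · rw [h]; exact le_trans (by norm_num : (4:ℕ) ≤ 2 ^ 2) (Nat.pow_le_pow_right two_pos hn)
  have htop : N = ⊤ := by
    rcases IsSimpleGroup.eq_bot_or_eq_top_of_normal N hN with h | h
    · exfalso
      subst h
      have h1 : Nat.card (Matrix.ProjectiveSpecialLinearGroup (Fin 2) F) = 1 := by
        rw [← Nat.card_congr e.toEquiv, Subgroup.card_bot]
      have h60 : 4 * 3 * 5 ≤ Fintype.card F * (Fintype.card F - 1) * (Fintype.card F + 1) :=
        Nat.mul_le_mul (Nat.mul_le_mul h5 (by omega)) (by omega)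
      rcases Nat.even_or_odd (Fintype.card F) with hev | hodd
      · have := Linear.card_PSL_two_of_even (F := F) hev
        rw [h1] at this
        omega
      · have := Linear.two_mul_card_PSL_two_of_odd (F := F) hodd
        rw [h1] at this
        omega
    · exact h
  subst htop
  have eG : G ≃* Matrix.ProjectiveSpecialLinearGroup (Fin 2) F :=
    (q.symm.trans Subgroup.topEquiv.symm).trans e
  rcases hcase with ⟨hq, -⟩ | ⟨n, hn, hq⟩
  · have hodd : Odd (Fintype.card F) := Nat.odd_iff.2 (by omega)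
    have hc := Linear.two_mul_card_PSL_two_of_odd (F := F) hodd
    rw [← Nat.card_congr eG.toEquiv] at hc
    obtain ⟨k, hk⟩ := h8
    rw [hk] at hc
    have h16 : Fintype.card F * (Fintype.card F - 1) * (Fintype.card F + 1) % 16 = 0 := by
      rw [← hc]; omega
    rw [Nat.mul_mod, Nat.mul_mod (Fintype.card F)] at h16
    obtain ⟨h, hh, hh'⟩ : ∃ r, Fintype.card F % 16 = r ∧
        (r = 3 ∨ r = 5 ∨ r = 11 ∨ r = 13) := ⟨_, rfl, by omega⟩
    have e1 : (Fintype.card F - 1) % 16 = h - 1 := by omega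
    have e2 : (Fintype.card F + 1) % 16 = h + 1 := by omega
    rw [hh, e1, e2] at h16
    rcases hh' with rfl | rfl | rfl | rfl <;> simp at h16
  · exact not_even hG h4 (hq ▸ dvd_pow_self 2 (by omega)) h5 eG

end Cfsg.Agent.Lib.RankFour54.Main
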